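import Cfsg.Agent.H374.QS.FF.Main
import Cfsg.Agent.H197.Reg.Main

/-!
# The row 2.F₄(2) (helper374)

`rowA` : every element of every finite perfect central extension of `F₄(2)` is a commutator.
-/

set_option autoImplicit false

namespace Cfsg.Agent.H374.QS.FF

open Cfsg.Lie Cfsg.Agent.H6.QO
open Cfsg.Agent.FourTwo.Base (LL)

theorem h16 : Cfsg.Agent.H326.F4C.H16 := fun f h1 h2 _ hg => Cfsg.Agent.H197.Reg.exists_conj16 f h1 h2 hg

/-- **the row of `F₄(2)`** -/
theorem rowA_LL : RowA LL := rowA_of h16

/-- **the row of `F₄(2)`**, any field with two elements -/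
theorem rowA {F : Type*} [Field F] [Fintype F] (h : Fintype.card F = 2) : RowA ↥(chevF4.group F) := rowA_F4 h16 F h

end Cfsg.Agent.H374.QS.FF
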