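import Cfsg.Agent.H374.QS.FF.Code

/-!
# 2.F₄(2): the certificate for `2^{1+8}.Sp₆(2)` and the module `2^7` (helper374)

`B r` (`15 ≤ r < 33`) : the root elements of the Levi factor of `P_s`, `A = ⟨B 41, …, B 47⟩`, `Q / Z` with the basis
`B 33, …, B 40`.  For the thirty class representatives `rws` of `Sp₆(2)` (`H612.Ore.SpCover`) pairs of words `aw`, `bw` in
the seven transvections with `rws = [aw, bw]` and without fixed functionals on `A` and on `Q / Z` (`fp7`, `fp8`).
-/

set_option autoImplicit false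

namespace Cfsg.Agent.H374.QS.FF

open Cfsg.Agent.H612.Ore
open Cfsg.Agent.SporRec.TwoSp6.Sp (V S om tr act act_one act_mul act_ext act_add act_om act_tr enc enc_xor om_enc
  fN exists_enc)

/-- action of `B r` (`15 ≤ r < 33`) on `A` (7 columns of 7 bits) -/
def cAs : List ℕ := [291409252909313, 300171254628609, 282716775973121, 322161218748673, 282922397532417,
  282582021374209, 352947544342785, 283128555995393, 423316288504193, 284777823404291, 282587390083841,
  282595980017925, 282578800541953, 282578800153857, 282578800148809, 282578800675073, 282578801197329,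
  282578800156961]

/-- action of `B r` (`15 ≤ r < 33`) on `Q / Z` (8 columns of 8 bits) -/
def cVs : List ℕ := [9385818351642870273, 9529653164253643265, 9817882445188694529, 10395471292144026113,
  11549516506207683073, 13853116520290583297, 9245925288251228673, 9250428887845175809, 9241439280843457025,
  9241421826029781505, 9241492057334482433, 9241421963468212737, 9277450486147187203, 9241562427152404997,
  9241422238350320137, 9241421690737787409, 9241421688598692385, 9241421688590336577]

/-- the transvections whose product is the action of `B r` (`15 ≤ r < 33`) on `A / ⟨t⟩` -/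
def cls : List (List ℕ) := [[1, 2, 3], [1, 4, 5], [2, 4, 6], [1], [2], [4], [1, 32, 33], [2, 32, 34], [1, 16, 17],
  [2, 8, 10], [4, 16, 20], [4, 8, 12], [32], [16], [8], [16, 32, 48], [8, 32, 40], [8, 16, 24]]

/-- words of the seven transvections in the root elements -/
def tws : List (List ℕ) := [[18], [29], [15, 18, 19], [17, 28, 17], [27], [20], [28]]

/-- action of the seven transvections on `A` -/
def g7s : List ℕ := [322161218748673, 282578800148809, 331335268892929, 282590611314433, 282578800541953,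
  282582021374209, 282578800153857]

/-- action of the seven transvections on `Q / Z` -/
def g8s : List ℕ := [10395471292144026113, 9241422238350320137, 12703566109761405441, 13853257258852684549,
  9277450486147187203, 13853116520290583297, 9241562427152404997]

/-- first words -/
def aw : List (List ℕ) := [[6, 5, 4, 2, 1, 0], [1, 2, 6, 5, 2, 3, 4, 0, 1, 2, 3, 0, 1, 2, 0, 1], [6, 5, 2, 3, 4, 1,
  2, 3, 0, 1, 2, 0, 1], [4, 3, 2, 6, 5, 1, 2, 3, 1, 2, 0, 1, 0], [4, 3, 1, 2, 6, 4, 5, 4, 1, 2, 3, 2, 0, 1], [4, 2,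
  3, 1, 2, 6, 5, 4, 3, 2, 0, 1], [5, 4, 3, 1, 2, 6, 5, 4, 1, 2, 3, 2, 0, 1], [2, 3, 4, 1, 2, 3, 0, 1, 2, 6, 1, 2,
  3, 4, 5, 0, 1, 2, 3, 4, 3, 2, 1, 0, 2, 3, 4, 5, 6, 2, 0, 1, 2, 3, 4, 3, 2, 1, 0, 5, 4, 3, 2, 1, 6, 2, 1, 0, 3, 2,
  1, 4, 3, 2], [4, 5, 2, 3, 4, 1, 2, 3, 0, 1, 2, 6, 0], [3, 2, 6, 5, 4, 3, 0, 1], [2, 6, 3, 4, 5, 1, 2, 3, 0, 1, 2,
  0], [6, 4, 5, 2, 3, 4, 1, 2, 3, 0, 1, 2, 0], [4, 3, 1, 2, 6, 5, 1, 2, 3, 1, 2, 1, 0], [3, 4, 2, 3, 1, 2, 6, 5, 4,
  3, 2, 1, 0], [3, 0, 1, 2, 6, 5, 4, 1, 2, 3], [4, 2, 3, 1, 2, 6, 5, 4, 3, 2, 0, 1], [2, 6, 5, 3, 4, 2, 3, 0, 1,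
  2], [3, 0, 1, 2, 6, 4, 5, 1, 2, 3], [2, 6, 5, 3, 4, 2, 3, 0, 1, 2], [3, 1, 2, 6, 4, 5, 3, 0, 1, 0], [3, 2, 6, 4,
  5, 3, 0, 1], [3, 2, 6, 5, 4, 1, 2, 3, 0, 1], [3, 2, 6, 4, 5, 1, 2, 3, 0, 1], [4, 3, 2, 6, 5, 1, 2, 3, 0, 1, 2, 0,
  1], [4, 3, 2, 6, 4, 5, 1, 2, 3, 4, 1, 0], [3, 0, 1, 2, 6, 4, 5, 3], [4, 3, 2, 6, 5, 3, 4, 3, 1, 0], [3, 1, 2, 6,
  4, 5, 3, 0], [6, 3, 4, 5, 2, 3, 1, 0], [6, 5, 4, 2, 1, 0]]

/-- second words -/
def bw : List (List ℕ) := [[], [6, 4, 2, 3, 1, 2, 6, 4, 5, 2, 3, 4, 1, 2, 3, 0, 1, 2, 6, 4, 3, 0, 1, 2, 0], [3, 0,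
  1, 0], [0], [2, 6, 2, 3, 4, 1, 2, 3, 0, 1, 2, 6, 5, 1, 2, 3, 4, 3, 1, 2, 1, 0], [2, 6, 2, 3, 4, 1, 2, 3, 0, 1, 2,
  6, 3, 4, 5, 4, 2, 3, 2, 1, 0], [4, 3, 2, 6, 2, 3, 4, 1, 2, 3, 0, 1, 2, 6, 5, 3, 4, 2, 3, 2, 0], [2, 3, 4, 1, 2,
  3, 0, 1, 2, 6, 1, 2, 3, 4, 5, 0, 1, 2, 3, 4, 3, 2, 1, 0, 1, 2, 6, 0, 0, 1, 2, 3, 4, 3, 2, 1, 0, 5, 4, 3, 2, 1, 6,
  2, 1, 0, 3, 2, 1, 4, 3, 2], [5, 3, 0, 1, 0], [4, 0, 1, 0], [3, 0, 1, 0], [3, 0, 1, 0], [1, 2, 3, 1, 2, 0, 1], [6,
  3], [2, 6, 2, 3, 4, 1, 2, 3, 0, 1, 2, 6, 4, 5, 0, 1, 2, 3, 4, 3, 0, 1, 2, 1], [2, 6, 5, 2, 3, 4, 1, 2, 3, 0, 1,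
  2, 6, 3, 4, 5, 4, 2, 3, 2, 1, 0], [5, 4, 3, 2, 6, 3, 4, 1, 2, 3, 0, 1, 2, 6, 4, 5, 0, 1, 2, 3, 4, 1, 2, 3, 0, 1,
  0], [2, 6, 2, 3, 4, 1, 2, 3, 0, 1, 2, 6, 4, 5, 1, 2, 3, 4, 3, 0, 1, 2, 1], [5, 4, 3, 2, 6, 4, 5, 2, 3, 4, 1, 2,
  3, 0, 1, 2, 6, 3, 4, 5, 3, 4, 3, 2, 0, 1, 0], [5, 4, 3, 2, 6, 5, 4, 1, 2, 3, 0, 1, 2, 6, 3, 4, 5, 1, 2, 3, 4, 2,
  3, 0, 1, 2, 0], [3, 4, 0, 1, 0], [3, 4, 5, 1, 2, 3, 0, 1, 2, 1], [3, 4, 1, 2, 3, 0, 1, 2, 1], [5, 3, 0, 1, 0],
  [2, 6], [2, 3, 1, 2, 6, 2, 3, 4, 1, 2, 3, 0, 1, 2, 6, 2, 3, 4, 5, 2, 3, 4, 3, 0, 1, 2, 1], [4, 3, 1, 2, 6, 5, 2,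
  3, 4, 1, 2, 3, 0, 1, 2, 6, 5, 4, 1, 2, 3, 0, 1, 2, 0, 1], [3, 4, 2], [3, 0, 1, 2, 0, 1, 0], [0, 1, 2, 6, 5, 2, 3,
  4, 1, 2, 3, 0, 1, 2, 6, 5, 1, 2, 3, 4, 1, 2, 3, 2, 1]]

/-- first words on `A` -/
def a7s : List ℕ := [4508658963818, 506823875877788, 212154221853468, 416844846938755, 164785027613403,
  202464775883108, 164638998725335, 124253691127205, 212703977926716, 484026457459047, 138353799260423,
  211329587738428, 414920701583005, 483939751872770, 143266436550375, 202464775883108, 127173999316676,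
  143277173770471, 127173999316676, 323802702286639, 484041489649511, 310080550415008, 310095582604448,
  190139293186691, 521195373407454, 209146134400832, 5464021256566, 486530423197513, 6018072053958, 4508658963818]

/-- second words on `A` -/
def b7s : List ℕ := [282578800148737, 479518621948700, 5513681114944, 322161218748673, 495733195634465,
  206846985027489, 146124201374595, 24809628871908, 5510459889472, 5501870342464, 5513681114944, 5513681114944,
  486155686590116, 282590611309313, 394877701350558, 206846985025953, 456402301839442, 394869916284702,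
  208800657201286, 269446402792849, 5513681835840, 72083259010231, 72072521591991, 5510459889472, 331335268896897,
  545971428138529, 83447474151729, 453255432509185, 283896281372463, 128616034996320]

/-- solutions on `A` -/
def u7s : List ℕ := [0, 504719035394708, 4501398405504, 2216337342464, 237546530687393, 453033394200881,
  81592008605844, 314496567493318, 9346119682307, 17729633469061, 68725817729, 8899442770307, 149610957897859,
  68753066000, 166173190742611, 219946263530386, 105046612220419, 455753983968037, 433856358924965,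
  502683252046368, 30889688006918, 96401988584181, 435519222252163, 4948341604352, 8874006417440, 79213136797970,
  11600950036759, 168302668251398, 155134223499651, 434354485834114]

/-- solutions on `A` -/
def v7s : List ℕ := [0, 2216337350656, 238088865497910, 223756831244435, 2113537, 8796634087682, 4432408346624,
  8797441508227, 149542989303842, 294807096649923, 72126031840016, 11030362702594, 79959448175378, 80264952815681,
  4398048624769, 270532609, 8796097249536, 17730707194368, 68723703810, 70918533810176, 361229069623378,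
  4398317060097, 70957188268048, 83576675369107, 167341602173159, 270532609, 2113536, 79754092912723,
  97346016886800, 1108169199648]

/-- first words on `Q / Z` -/
def a8s : List ℕ := [216761291722909856, 16419386643240971260, 16147199242757466175, 9062285942290395455,
  16002785567855894101, 5189739138769520825, 9948821493880982097, 1495431492700226971, 16147234977054179516,
  971426274087809467, 15714513181894707835, 6919464616762779771, 13108709652065403924, 5191990698596966402,
  4959818119120681671, 5189739138769520825, 15342379113128248557, 15316888271665377670, 15342379113128248557,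
  8027347189501059862, 8896542741839793142, 605770711591584980, 7521239805116568720, 17949014117448888639,
  9865339253996158219, 12675088028681685216, 222367701541466553, 15246442238736522742, 1375289687134314886,
  216761291722909856]

/-- second words on `Q / Z` -/
def b8s : List ℕ := [9241421688590303745, 951235061342857471, 1442299496108173384, 10395471292144026113,
  6840651540752471763, 380934619572295107, 14111819685594860593, 743387995054833081, 1154072143613452360,
  1158553752983052328, 1442299496108173384, 1442299496108173384, 11909826166069958980, 13853186889034761985,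
  9062564924659457526, 380940118086734210, 886488336505702954, 14158733651764330208, 13552425769938411782,
  15547391862189242277, 1445677196118108384, 9372186956655947126, 10524950157358177142, 1154072143613452360,
  12703689256070352900, 3716780957908390676, 12149340650133226081, 8966872500961415958, 7496427050543682309,
  228016982571663488]

/-- solutions on `Q / Z` -/
def u8s : List ℕ := [0, 4762854854014147595, 432909699944681494, 14431970274830196744, 4708022049335872025,
  9005213000668513647, 736116673951966241, 8992821456070581559, 1515202910936564995, 72902092284887571,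
  1373880538147131408, 1591462885661479442, 7064327257091543813, 11565264401486320146, 3393469062407925029,
  4088382836973180463, 2163735696911176757, 12541547647427413540, 12723956272618347038, 580151929575053080,
  5819928921924448543, 1257933889441432644, 10287360110422656010, 77974139491652354, 12703689256070352900,
  7793638873393216261, 198936589861456399, 391084368053339179, 7496426603862399813, 4639834817524803137]

/-- solutions on `Q / Z` -/
def v8s : List ℕ := [0, 5188217414357092360, 5765263184520942100, 2317667157309128704, 1302105510039916560, 0,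
  566261406827265, 0, 2383531344317920261, 2379626978260492835, 1876334253739478024, 2884595281658646548, 0,
  2305846350698250496, 1224980266893771024, 0, 76579954082516993, 73188991519949824, 0, 144398874960724227, 0,
  144681445154095107, 72059793078091776, 2020163620314875144, 0, 0, 565149011279872, 360292385499906052, 0,
  144679250476269570]

/-- the code of the image in `A / ⟨B 44⟩` -/
def p6 (v : ℕ) : ℕ := v % 8 + (bif v.testBit 6 then 8 else 0) + (bif v.testBit 5 then 16 else 0) +
  (bif v.testBit 4 then 32 else 0)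

/-- a transvection on codes -/
def st (c v : ℕ) : ℕ := bif B6 v c then v ^^^ c else v

/-- the code of the action of `B r` on `A` -/
def cAr (r : ℕ) : ℕ := if r < 33 then cAs.getD (r - 15) 0 else 282578800148737

theorem p6_lt : ∀ v < 128, p6 v < 64 := by decide +kernel

theorem p6_zero : ∀ v < 128, p6 v = 0 → v = 0 ∨ v = 8 := by decide +kernel

theorem p6_two_pow : ∀ v < 128, ∀ k < 7, k ≠ 3 → p6 v = p6 (2 ^ k) → v = 2 ^ k ∨ v = 2 ^ k ^^^ 8 := by decide +kernel

theorem chkR : ((List.range 18).all fun j => (List.range 128).all fun v =>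
    p6 (apc 7 (cAs.getD j 0) v) == (cls.getD j []).foldr st (p6 v)) = true := by decide +kernel

theorem chkR' : ((List.range 18).all fun j => (List.range 64).all fun v =>
    (cls.getD j []).foldr st ((cls.getD j []).foldr st v) == v && (cls.getD j []).all fun c => Nat.blt c 64) = true := by
  decide +kernel

theorem chkT : ((List.range 7).all fun j => (List.range 128).all fun v =>
    p6 (apc 7 (g7s.getD j 0) v) == st6 j (p6 v)) = true := by decide +kernel

theorem apc_lt' (n c v : ℕ) : apc n c v < 2 ^ n := by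
  have key : ∀ k, apk n c v k < 2 ^ n := by
    intro k
    induction k with
    | zero => exact Nat.two_pow_pos n
    | succ k ih =>
      rw [apk]
      cases v.testBit k
      · exact ih
      · exact Nat.xor_lt_two_pow ih (col_lt _ _ _)
  exact key n

theorem ap_trc {c v : ℕ} (hc : c < 64) (hv : v < 64) : spAct.ap (tr (enc c)) v = st c v := by
  rw [spAct_ap, act_tr, st]
  have h := B6_om hv hc
  have hlt : v ^^^ c < 64 := Nat.xor_lt_two_pow (n := 6) hv hc
  by_cases h1 : om (enc v) (enc c) = 1
  · rw [h, decide_eq_true h1, cond_true, h1, one_smul, ← enc_xor, cd_enc _ hlt]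
  · have h0 : om (enc v) (enc c) = 0 := by
      rcases Cfsg.Agent.SporRec.TwoSp6.Sp.om_cases (enc v) (enc c) with h2 | h2
      · exact h2
      · exact absurd h2 h1
    rw [h, decide_eq_false h1, cond_false, h0, zero_smul, add_zero, cd_enc v hv]

theorem st_lt {c v : ℕ} (hc : c < 64) (hv : v < 64) : st c v < 64 := by
  rw [st]
  cases B6 v c
  · exact hv
  · exact Nat.xor_lt_two_pow (n := 6) hv hc

/-- the element of `Sp₆(2)` given by a list of centres -/
def sc (l : List ℕ) : S := (l.map fun c => tr (enc c)).prod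

theorem ap_sc {l : List ℕ} (hl : ∀ c ∈ l, c < 64) {v : ℕ} (hv : v < 64) :
    spAct.ap (sc l) v = l.foldr st v ∧ l.foldr st v < 64 := by
  induction l with
  | nil => exact ⟨spAct.one v hv, hv⟩
  | cons c l ih =>
    obtain ⟨h1, h2⟩ := ih fun c hc => hl c (List.mem_cons_of_mem _ hc)
    have hc := hl c List.mem_cons_self
    have e : sc (c :: l) = tr (enc c) * sc l := by simp [sc]
    refine ⟨?_, ?_⟩
    · rw [e, spAct.mul _ _ _ hv, h1, ap_trc hc h2, List.foldr_cons]
    · rw [List.foldr_cons]; exact st_lt hc h2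

/-- the words are commutators in `Sp₆(2)` -/
theorem chkS : ((List.range 30).all fun i => (List.range 6).all fun k =>
    wv6 (aw.getD i []) (wv6 (bw.getD i []) (2 ^ k)) ==
      wv6 (rws.getD i []) (wv6 (bw.getD i []) (wv6 (aw.getD i []) (2 ^ k)))) = true := by decide +kernel

theorem comm_aw {i : ℕ} (hi : i < 30) : wd tv (rws.getD i []) =
    wd tv (aw.getD i []) * wd tv (bw.getD i []) * (wd tv (aw.getD i []))⁻¹ * (wd tv (bw.getD i []))⁻¹ := by
  have h : wd tv (aw.getD i []) * wd tv (bw.getD i []) =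
      wd tv (rws.getD i []) * (wd tv (bw.getD i []) * wd tv (aw.getD i [])) := by
    apply spAct.ext
    intro k hk
    have h1 := eq_of_beq (List.all_eq_true.1 (List.all_eq_true.1 chkS i (List.mem_range.2 hi)) k
      (List.mem_range.2 hk))
    have hk2 : 2 ^ k < 64 := two_pow_lt (n := 6) hk
    have hlt : ∀ w : List ℕ, ∀ v, v < 64 → wv6 w v < 64 := by
      intro w v hv
      rw [← ap_wd w hv]
      exact spAct.lt _ _ hv
    rw [spAct.mul _ _ _ hk2, spAct.mul _ _ _ hk2, spAct.mul _ _ _ hk2, ap_wd _ hk2, ap_wd _ (hlt _ _ hk2),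
      ap_wd _ hk2, ap_wd _ (hlt _ _ hk2), ap_wd _ (hlt _ _ (hlt _ _ hk2))]
    exact h1
  rw [h]
  group

theorem chkA : ((List.range 30).all fun i => ((aw.getD i []).all fun j => Nat.blt j 7) &&
    ((bw.getD i []).all fun j => Nat.blt j 7) && isC 7 g7s (aw.getD i []) (a7s.getD i 0) &&
    isC 7 g7s (bw.getD i []) (b7s.getD i 0) && isC 8 g8s (aw.getD i []) (a8s.getD i 0) &&
    isC 8 g8s (bw.getD i []) (b8s.getD i 0)) = true := by decide +kernel

theorem fp7 : ((List.range 30).all fun i => Nat.beq i 0 ||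
    fpB 7 (a7s.getD i 0) (b7s.getD i 0) (u7s.getD i 0) (v7s.getD i 0)) = true := by decide +kernel

theorem fp8 : ((List.range 30).all fun i => Nat.beq i 0 ||
    fpB 8 (a8s.getD i 0) (b8s.getD i 0) (u8s.getD i 0) (v8s.getD i 0)) = true := by decide +kernel

theorem nt8 : ((List.range 30).all fun i => Nat.beq i 0 || (List.range 8).any fun k =>
    !(apc 8 (a8s.getD i 0) (col 8 (b8s.getD i 0) k) == apc 8 (b8s.getD i 0) (col 8 (a8s.getD i 0) k))) = true := by
  decide +kernel

end Cfsg.Agent.H374.QS.FF
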