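import Cfsg.Agent.H612.Ore.SpCover
import Cfsg.Agent.H6.ORE.Extra

/-!
# 2.F₄(2): elementary abelian 2-groups with coded actions (helper374)

`el t n h`: the product of the `t i` (`i < n`) with bit `i` of `h` set.
* `EAb t n`: the `t i` (`i < n`) are commuting involutions (or 1); `el_xor`, `conj_el`, `conj_word`.
* `fp_of_codes` : `FP` from codes.
-/

set_option autoImplicit false

namespace Cfsg.Agent.H374.QS.FF

open Cfsg.Agent.H612.Ore

variable {G : Type*} [Group G]

/-- the product of the `t i` with bit `i` set -/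
def el (t : ℕ → G) : ℕ → ℕ → G
  | 0, _ => 1
  | n + 1, h => el t n h * (if h.testBit n = true then t n else 1)

/-- commuting elements of order at most two -/
structure EAb (t : ℕ → G) (n : ℕ) : Prop where
  sq : ∀ i, i < n → t i * t i = 1
  cm : ∀ i, i < n → ∀ j, j < n → t i * t j = t j * t i

variable {t : ℕ → G}

theorem el_zero (n : ℕ) : el t n 0 = 1 := by
  induction n with
  | zero => rfl
  | succ n ih => rw [el, ih, Nat.zero_testBit, if_neg (by decide), one_mul]

theorem el_mem {H : Subgroup G} {n : ℕ} (h : ∀ i, i < n → t i ∈ H) (v : ℕ) : el t n v ∈ H := by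
  induction n with
  | zero => exact one_mem _
  | succ n ih =>
    rw [el]
    refine mul_mem (ih fun i hi => h i (by omega)) ?_
    split_ifs
    · exact h n (by omega)
    · exact one_mem _

theorem EAb.comm_el {n : ℕ} (E : EAb t n) {k i : ℕ} (hk : k ≤ n) (hi : i < n) (v : ℕ) :
    t i * el t k v = el t k v * t i := by
  induction k with
  | zero => rw [el, mul_one, one_mul]
  | succ k ih =>
    rw [el, ← mul_assoc, ih (by omega), mul_assoc, mul_assoc]
    congr 1
    split_ifs
    · exact E.cm i hi k (by omega)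
    · rw [mul_one, one_mul]

theorem EAb.el_xor {n : ℕ} (E : EAb t n) {k : ℕ} (hk : k ≤ n) (u v : ℕ) :
    el t k (u ^^^ v) = el t k u * el t k v := by
  induction k with
  | zero => rw [el, el, el, one_mul]
  | succ k ih =>
    have hk' : k < n := by omega
    have hc := E.comm_el (k := k) (by omega) hk' v
    rw [el, el, el, ih (by omega), Nat.testBit_xor]
    cases u.testBit k <;> cases v.testBit k
    · simp
    · simp [mul_assoc]
    · simp only [Bool.xor_false, if_true, Bool.false_eq_true, if_false, mul_one]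
      rw [mul_assoc, ← hc, ← mul_assoc]
    · simp only [Bool.xor_self, Bool.false_eq_true, if_false, if_true, mul_one]
      calc el t k u * el t k v = el t k u * (t k * t k) * el t k v := by rw [E.sq k hk', mul_one]
        _ = el t k u * t k * (t k * el t k v) := by simp only [mul_assoc]
        _ = el t k u * t k * (el t k v * t k) := by rw [hc]

theorem EAb.el_sq {n : ℕ} (E : EAb t n) (u : ℕ) : el t n u * el t n u = 1 := by
  rw [← E.el_xor le_rfl, Nat.xor_self, el_zero]

theorem EAb.el_inv {n : ℕ} (E : EAb t n) (u : ℕ) : (el t n u)⁻¹ = el t n u :=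
  inv_eq_of_mul_eq_one_right (E.el_sq u)

theorem EAb.el_comm {n : ℕ} (E : EAb t n) (u v : ℕ) : el t n u * el t n v = el t n v * el t n u := by
  rw [← E.el_xor le_rfl, ← E.el_xor le_rfl, Nat.xor_comm]

theorem el_two_pow {n i : ℕ} (hi : i < n) : el t n (2 ^ i) = t i := by
  induction n with
  | zero => omega
  | succ n ih =>
    rw [el]
    by_cases h : i = n
    · subst h
      have h0 : ∀ k, k ≤ i → el t k (2 ^ i) = 1 := by
        intro k
        induction k with
        | zero => intro _; rfl
        | succ k ihk =>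
          intro hk
          rw [el, ihk (by omega), Nat.testBit_two_pow]
          have : ¬ i = k := by omega
          simp [this]
      rw [h0 i le_rfl, Nat.testBit_two_pow]
      simp
    · rw [ih (by omega), Nat.testBit_two_pow]
      simp [h]

theorem el_mod {n : ℕ} (v : ℕ) : el t n v = el t n (v % 2 ^ n) := by
  have key : ∀ k, k ≤ n → el t k v = el t k (v % 2 ^ n) := by
    intro k
    induction k with
    | zero => intro _; rfl
    | succ k ih =>
      intro hk
      rw [el, el, ih (by omega), Nat.testBit_mod_two_pow]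
      have : k < n := by omega
      simp [this]
  exact key n le_rfl

theorem map_el {G' : Type*} [Group G'] (f : G →* G') (n h : ℕ) : f (el t n h) = el (fun i => f (t i)) n h := by
  induction n with
  | zero => exact map_one f
  | succ n ih =>
    rw [el, el, map_mul, ih]
    split_ifs
    · rfl
    · rw [map_one]

/-- `g` acts with the matrix code `c` -/
def ActsC (t : ℕ → G) (n : ℕ) (g : G) (c : ℕ) : Prop := ∀ i, i < n → g * t i * g⁻¹ = el t n (col n c i)

theorem conj_apk {n : ℕ} (E : EAb t n) {g : G} {c : ℕ} (h : ActsC t n g c) (v : ℕ) :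
    ∀ k, k ≤ n → g * el t k v * g⁻¹ = el t n (apk n c v k) := by
  intro k
  induction k with
  | zero => intro _; rw [el, mul_one, mul_inv_cancel, apk, el_zero]
  | succ k ih =>
    intro hk
    have ih' := ih (by omega)
    rw [el, apk]
    have e : g * (el t k v * (if v.testBit k = true then t k else 1)) * g⁻¹ =
        (g * el t k v * g⁻¹) * (g * (if v.testBit k = true then t k else 1) * g⁻¹) := by group
    rw [e, ih']
    cases v.testBit k
    · simp
    · rw [cond_true, if_pos rfl, h k (by omega), E.el_xor le_rfl]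

theorem conj_el {n : ℕ} (E : EAb t n) {g : G} {c : ℕ} (h : ActsC t n g c) (v : ℕ) :
    g * el t n v * g⁻¹ = el t n (apc n c v) := conj_apk E h v n le_rfl

theorem ActsC.mul {n : ℕ} (E : EAb t n) {g g' : G} {c c' c'' : ℕ} (h : ActsC t n g c) (h' : ActsC t n g' c')
    (hc : ∀ i, i < n → apc n c (col n c' i) = col n c'' i) : ActsC t n (g * g') c'' := by
  intro i hi
  have e : (g * g') * t i * (g * g')⁻¹ = g * (g' * t i * g'⁻¹) * g⁻¹ := by group
  rw [e, h' i hi, conj_el E h, hc i hi]

/-- the action of a word on codes -/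
def wv (n : ℕ) (gs : List ℕ) (w : List ℕ) (v : ℕ) : ℕ := w.foldr (fun j v => apc n (gs.getD j 0) v) v

theorem conj_wd {n : ℕ} (E : EAb t n) {T : ℕ → G} {gs : List ℕ}
    (w : List ℕ) (h : ∀ j ∈ w, ActsC t n (T j) (gs.getD j 0)) (v : ℕ) :
    wd T w * el t n v * (wd T w)⁻¹ = el t n (wv n gs w v) := by
  induction w with
  | nil => rw [wd, one_mul, inv_one, mul_one]; rfl
  | cons j w ih =>
    have e : wd T (j :: w) * el t n v * (wd T (j :: w))⁻¹ = T j * (wd T w * el t n v * (wd T w)⁻¹) * (T j)⁻¹ := by
      rw [wd]; group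
    rw [e, ih fun k hk => h k (List.mem_cons_of_mem _ hk), conj_el E (h j List.mem_cons_self)]
    rfl

/-- check of the code of a word -/
def isC (n : ℕ) (gs : List ℕ) (w : List ℕ) (c : ℕ) : Bool :=
  (List.range n).all fun i => wv n gs w (2 ^ i) == col n c i

theorem acts_of_isC {n : ℕ} (E : EAb t n) {T : ℕ → G} {gs : List ℕ} {w : List ℕ}
    (h : ∀ j ∈ w, ActsC t n (T j) (gs.getD j 0)) {c : ℕ} (hc : isC n gs w c = true) : ActsC t n (wd T w) c := by
  intro i hi
  have h1 := eq_of_beq (List.all_eq_true.1 hc i (List.mem_range.2 hi))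
  rw [← h1, ← conj_wd E w h, el_two_pow hi]

/-- check of the solutions of `w = u + b u + v + a v` -/
def fpB (n : ℕ) (a b u v : ℕ) : Bool :=
  (List.range (2 ^ n)).all fun w =>
    w == (apc n u w ^^^ apc n b (apc n u w)) ^^^ (apc n v w ^^^ apc n a (apc n v w))

theorem fp_codes {n : ℕ} (E : EAb t n) {a b : G} {ca cb u v : ℕ} (ha : ActsC t n a ca) (hb : ActsC t n b cb)
    (hc : fpB n ca cb u v = true) {w : ℕ} (hw : w < 2 ^ n) :
    el t n w = el t n (apc n u w) * (b * el t n (apc n u w) * b⁻¹)⁻¹ *
      (el t n (apc n v w) * (a * el t n (apc n v w) * a⁻¹)⁻¹) := by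
  have h1 := eq_of_beq (List.all_eq_true.1 hc w (List.mem_range.2 hw))
  rw [conj_el E ha, conj_el E hb, E.el_inv, E.el_inv, ← E.el_xor le_rfl, ← E.el_xor le_rfl, ← E.el_xor le_rfl, ← h1]

end Cfsg.Agent.H374.QS.FF
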