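import Cfsg.Agent.H374.QS.FF.ParC
import Cfsg.Agent.H326.F4C.Cover
import Cfsg.Agent.H434.FF.NotRad
import Cfsg.Agent.H763.TwoF4.Cover
import Cfsg.Agent.H824.Fs.ExPar
import Cfsg.Agent.OddHalf.D9.FFour.MultTwo

/-!
# 2.F₄(2): every element is a commutator (helper374)

`isComm_par` : the elements over `P_s ∖ Q_s` (for every perfect central extension with kernel of order 2);
`allC_of`, `rowA_of` : the row from the number of odd classes (`H326.F4C.H16`).
-/

set_option autoImplicit false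

namespace Cfsg.Agent.H374.QS.FF

open Cfsg.Lie Cfsg.Agent.H612.Ore Cfsg.Agent.H6.ORE Cfsg.Agent.H777.Ore Cfsg.Agent.H51.Mult Cfsg.Agent.H6.QO
open Cfsg.Agent.FourTwo.Comm Cfsg.Agent.FourTwo.Par
open Cfsg.Agent.FourTwo.Cent (psP plP Ps Pl)
open Cfsg.Agent.FourTwo.CentAll (isShort)
open Cfsg.Agent.FourTwo.Lift (Ext Sys wA wA_nil wA_cons)
open Cfsg.Agent.FourTwo.Base (LL x bar exists_graph)

universe u

section

variable {Γ : Type u} [Group Γ] {π : Γ →* LL}

/-- the signed lifts -/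
def BB (A : ℕ → Γ) (m : Γ) (r : ℕ) : Γ := sz m (isShort r) * A r

theorem wb_BB {A : ℕ → Γ} {m : Γ} (S : Sys π A m) (w : List ℕ) :
    wb (BB A m) w = sz m (w.countP isShort % 2 == 1) * wA A w := by
  have hz : ∀ (e : Bool) (g : Γ), sz m e * g = g * sz m e := by
    intro e g
    cases e
    · rw [sz_false, one_mul, mul_one]
    · rw [sz_true, S.m_cen]
  induction w with
  | nil => rw [wb_nil, wA_nil, List.countP_nil]; simp [sz]
  | cons r w ih =>
    rw [wb_cons, ih, wA_cons, BB, List.countP_cons]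
    have e : sz m (isShort r) * A r * (sz m (w.countP isShort % 2 == 1) * wA A w) =
        sz m (isShort r) * sz m (w.countP isShort % 2 == 1) * (A r * wA A w) := by
      rw [mul_assoc, ← mul_assoc (A r), ← hz _ (A r)]; group
    rw [e]
    congr 1
    rcases Nat.mod_two_eq_zero_or_one (w.countP isShort) with h | h <;> cases hr : isShort r
    · simp [sz, h]
    · simp [sz, h, Nat.add_mod]
    · simp [sz, h]
    · simp [sz, h, Nat.add_mod, S.m_sq]

theorem sz_cen {A : ℕ → Γ} {m : Γ} (S : Sys π A m) (e : Bool) (g : Γ) : sz m e * g = g * sz m e := by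
  cases e
  · rw [sz_false, one_mul, mul_one]
  · rw [sz_true, S.m_cen]

theorem sz_ker {A : ℕ → Γ} {m : Γ} (S : Sys π A m) (e : Bool) : π (sz m e) = 1 := by
  cases e
  · rw [sz_false, map_one]
  · rw [sz_true, S.m_ker]

theorem sz_sq {A : ℕ → Γ} {m : Γ} (S : Sys π A m) (e : Bool) : sz m e * sz m e = 1 := by
  cases e
  · rw [sz_false, one_mul]
  · rw [sz_true, S.m_sq]

theorem BB_cj {A : ℕ → Γ} {m : Γ} (S : Sys π A m) {r s : ℕ} (hr : r < 48) (hs : s < 48) (h1 : r ≠ s)
    (h2 : r + s ≠ 47) : BB A m r * BB A m s * (BB A m r)⁻¹ = sz m (sgB r s) * wb (BB A m) (s :: cmg r s) := by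
  have hlen := Cfsg.Agent.F42.RelTab.all2_spec Cfsg.Agent.FourTwo.Lift.len_tab hr hs
  rw [Nat.ble_eq] at hlen
  have e1 : BB A m r * BB A m s * (BB A m r)⁻¹ = sz m (isShort s) * (A r * A s * (A r)⁻¹) := by
    unfold BB
    calc sz m (isShort r) * A r * (sz m (isShort s) * A s) * (sz m (isShort r) * A r)⁻¹
        = sz m (isShort r) * (A r * sz m (isShort s)) * A s * (sz m (isShort r) * A r)⁻¹ := by group
      _ = sz m (isShort r) * (sz m (isShort s) * A r) * A s * (sz m (isShort r) * A r)⁻¹ := by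
          rw [← sz_cen S (isShort s) (A r)]
      _ = (sz m (isShort r) * sz m (isShort s)) * A r * A s * (A r)⁻¹ * (sz m (isShort r))⁻¹ := by group
      _ = (sz m (isShort s) * sz m (isShort r)) * A r * A s * (A r)⁻¹ * (sz m (isShort r))⁻¹ := by
          rw [sz_cen S (isShort r)]
      _ = sz m (isShort s) * (sz m (isShort r) * (A r * A s * (A r)⁻¹)) * (sz m (isShort r))⁻¹ := by group
      _ = sz m (isShort s) * ((A r * A s * (A r)⁻¹) * sz m (isShort r)) * (sz m (isShort r))⁻¹ := by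
          rw [sz_cen S (isShort r) (A r * A s * (A r)⁻¹)]
      _ = _ := by group
  rw [e1, wb_cons, wb_BB S, BB]
  have e2 : sz m (sgB r s) * (sz m (isShort s) * A s *
      (sz m ((cmg r s).countP isShort % 2 == 1) * wA A (cmg r s))) =
      (sz m (sgB r s) * sz m ((cmg r s).countP isShort % 2 == 1)) * sz m (isShort s) * (A s * wA A (cmg r s)) := by
    obtain ⟨X, hX⟩ : ∃ X, X = sz m ((cmg r s).countP isShort % 2 == 1) := ⟨_, rfl⟩
    have hXc : ∀ g, X * g = g * X := by intro g; rw [hX]; exact sz_cen S _ g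
    rw [← hX]
    calc sz m (sgB r s) * (sz m (isShort s) * A s * (X * wA A (cmg r s)))
        = sz m (sgB r s) * (sz m (isShort s) * A s * X) * wA A (cmg r s) := by group
      _ = sz m (sgB r s) * (X * (sz m (isShort s) * A s)) * wA A (cmg r s) := by rw [hXc]
      _ = _ := by group
  rw [e2]
  rcases Nat.lt_or_ge (cmg r s).length 2 with h3 | h3
  · have e3 : sgB r s = ((cmg r s).countP isShort % 2 == 1) := by
      unfold sgB
      rw [if_neg (by omega), add_zero]
    rw [e3, sz_sq S, one_mul, S.cm1 hr hs h1 h2 (by omega), mul_inv_cancel_right]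
  · have h4 : (cmg r s).length = 2 := by omega
    have e3 : sz m (sgB r s) * sz m ((cmg r s).countP isShort % 2 == 1) = m := by
      unfold sgB
      rw [if_pos h4]
      rcases Nat.mod_two_eq_zero_or_one ((cmg r s).countP isShort) with h | h
      · simp [sz, h, Nat.add_mod]
      · simp [sz, h, Nat.add_mod]
    rw [e3, S.cm2 hr hs h4, S.m_cen (sz m (isShort s))]
    have e4 : sz m (isShort s) * (m * (A s * wA A (cmg r s) * A r) * (A r)⁻¹) =
        sz m (isShort s) * m * (A s * wA A (cmg r s)) := by group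
    rw [e4]

/-- the letters of `P_s` -/
theorem ps_tab : ((List.range 33).all fun i => (List.range 33).all fun j => i == j || (15 + i) + (15 + j) == 47 ||
    (cmg (15 + i) (15 + j)).all fun c => Nat.ble 15 c && Nat.blt c 48) = true := by decide +kernel

theorem ps_letters {r s : ℕ} (h1 : 15 ≤ r) (h2 : r < 48) (h3 : 15 ≤ s) (h4 : s < 48) (h5 : r ≠ s) (h6 : r + s ≠ 47) :
    ∀ c ∈ cmg r s, 15 ≤ c ∧ c < 48 := by
  have h := List.all_eq_true.1 (List.all_eq_true.1 ps_tab (r - 15) (List.mem_range.2 (by omega))) (s - 15)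
    (List.mem_range.2 (by omega))
  rw [show 15 + (r - 15) = r by omega, show 15 + (s - 15) = s by omega, Bool.or_eq_true, Bool.or_eq_true, beq_iff_eq,
    beq_iff_eq, List.all_eq_true] at h
  intro c hc
  rcases h with (h | h) | h
  · omega
  · omega
  · have := h c hc
    rw [Bool.and_eq_true, Nat.ble_eq, Nat.blt_eq] at this
    exact this

variable {A : ℕ → Γ} {m : Γ}

theorem BB_mem (S : Sys π A m) {r : ℕ} (h : 15 ≤ r ∧ r < 48) : BB A m r ∈ Ps.comap π := by
  show π (sz m (isShort r) * A r) ∈ Ps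
  rw [map_mul, sz_ker S, one_mul, S.lift h.2]
  exact x_mem_RG h.2 (by unfold psP; simpa using h.1)

open Classical in
/-- the lifts in the preimage of `P_s` -/
noncomputable def bb (S : Sys π A m) (r : ℕ) : ↥(Ps.comap π) :=
  if h : 15 ≤ r ∧ r < 48 then ⟨BB A m r, BB_mem S h⟩ else 1

theorem coe_bb (S : Sys π A m) {r : ℕ} (h1 : 15 ≤ r) (h2 : r < 48) : ((bb S r : ↥(Ps.comap π)) : Γ) = BB A m r := by
  unfold bb
  rw [dif_pos ⟨h1, h2⟩]

/-- the central element in the preimage of `P_s` -/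
def mz (S : Sys π A m) : ↥(Ps.comap π) := ⟨m, by
  show π m ∈ Ps
  rw [S.m_ker]
  exact one_mem _⟩

theorem coe_sz (S : Sys π A m) (e : Bool) : ((sz (mz S) e : ↥(Ps.comap π)) : Γ) = sz m e := by
  cases e
  · rw [sz_false, sz_false]; rfl
  · rw [sz_true, sz_true]; rfl

theorem coe_wb (S : Sys π A m) {w : List ℕ} (h : ∀ c ∈ w, 15 ≤ c ∧ c < 48) :
    ((wb (bb S) w : ↥(Ps.comap π)) : Γ) = wb (BB A m) w := by
  induction w with
  | nil => rw [wb_nil, wb_nil]; rfl
  | cons c w ih =>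
    have hc := h c List.mem_cons_self
    rw [wb_cons, wb_cons, Subgroup.coe_mul, ih fun d hd => h d (List.mem_cons_of_mem _ hd), coe_bb S hc.1 hc.2]

theorem pd (S : Sys π A m) (hm : m ≠ 1) (hk : ∀ g, π g = 1 → g = 1 ∨ g = m) :
    PD (bb S) (mz S) (π.comp (Ps.comap π).subtype) where
  z1 := fun h => hm (congrArg Subtype.val h)
  z2 := Subtype.ext S.m_sq
  zc := fun g => Subtype.ext (S.m_cen g).symm
  fz := S.m_ker
  sq := by
    intro r h1 h2
    apply Subtype.ext
    rw [Subgroup.coe_mul, coe_bb S h1 h2, BB]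
    calc sz m (isShort r) * A r * (sz m (isShort r) * A r) = sz m (isShort r) * (A r * sz m (isShort r)) * A r := by group
      _ = sz m (isShort r) * (sz m (isShort r) * A r) * A r := by rw [sz_cen S _ (A r)]
      _ = (sz m (isShort r) * sz m (isShort r)) * (A r * A r) := by group
      _ = 1 := by rw [sz_sq S, S.sq h2, one_mul]
  cj := by
    intro r h1 h2 s h3 h4 h5 h6
    apply Subtype.ext
    rw [Subgroup.coe_mul, Subgroup.coe_mul, Subgroup.coe_inv, Subgroup.coe_mul, coe_sz, coe_wb S, coe_bb S h1 h2,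
      coe_bb S h3 h4]
    · exact BB_cj S h2 h4 h5 h6
    · intro c hc
      rcases List.mem_cons.1 hc with rfl | hc
      · exact ⟨h3, h4⟩
      · exact ps_letters h1 h2 h3 h4 h5 h6 c hc
  mp := by
    intro r h1 h2
    show π ((bb S r : ↥(Ps.comap π)) : Γ) = x r
    rw [coe_bb S h1 h2, BB, map_mul, sz_ker S, one_mul, S.lift h2]
  ker := by
    intro g hg
    rcases hk (g : Γ) hg with h | h
    · exact Or.inl (Subtype.ext h)
    · exact Or.inr (Subtype.ext h)
  gen := by
    rw [eq_top_iff]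
    intro g _
    obtain ⟨C, hC⟩ : ∃ C, C = Subgroup.closure ({g | ∃ r, 15 ≤ r ∧ r < 48 ∧ g = bb S r} ∪ {mz S}) := ⟨_, rfl⟩
    rw [← hC]
    have h1 : Ps ≤ C.map (π.comp (Ps.comap π).subtype) := RG_le fun r hr hp => by
      have h2 : 15 ≤ r := by unfold psP at hp; simpa using hp
      refine ⟨bb S r, ?_, ?_⟩
      · rw [hC]; exact Subgroup.subset_closure (Or.inl ⟨r, h2, hr, rfl⟩)
      · show π ((bb S r : ↥(Ps.comap π)) : Γ) = x r
        rw [coe_bb S h2 hr, BB, map_mul, sz_ker S, one_mul, S.lift hr]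
    obtain ⟨c, hc, e⟩ := h1 g.2
    have h2 : π ((c⁻¹ * g : ↥(Ps.comap π)) : Γ) = 1 := by
      rw [Subgroup.coe_mul, Subgroup.coe_inv, map_mul, map_inv]
      have e' : π (c : Γ) = π (g : Γ) := e
      rw [e', inv_mul_cancel]
    have h3 : mz S ∈ C := by rw [hC]; exact Subgroup.subset_closure (Or.inr rfl)
    have h4 : c⁻¹ * g ∈ C := by
      rcases hk _ h2 with h | h
      · rw [show c⁻¹ * g = 1 from Subtype.ext h]; exact one_mem _
      · rw [show c⁻¹ * g = mz S from Subtype.ext h]; exact h3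
    have h5 := mul_mem hc h4
    rwa [mul_inv_cancel_left] at h5

/-- **the elements over `P_s ∖ Q_s`** -/
theorem isComm_par [Finite Γ] (hπ : PCE π) (h2 : Nat.card π.ker = 2) {g : Γ} (hg : π g ∈ Ps) (hn : π g ∉ RG w33) :
    IsComm g := by
  have E : Ext π := ⟨hπ.surj, fun m hm g =>
    (Subgroup.mem_center_iff.1 (hπ.cen (MonoidHom.mem_ker.2 hm)) g).symm⟩
  have hk : ∀ g, π g = 1 → g = 1 ∨ g = E.m₀ := fun g hg => Cfsg.Agent.FourTwo.Mult.ker_two E hπ.perf hg
  have hm : E.m₀ ≠ 1 := by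
    intro h
    have h3 : ∀ g : π.ker, g = 1 := by
      intro g
      rcases hk g (MonoidHom.mem_ker.1 g.2) with e | e
      · exact Subtype.ext e
      · exact Subtype.ext (e.trans h)
    have h4 : Subsingleton π.ker := ⟨fun a b => by rw [h3 a, h3 b]⟩
    have h5 := Nat.card_of_subsingleton (1 : π.ker)
    omega
  have D := pd E.sys hm hk
  have h3 : IsComm (⟨g, hg⟩ : ↥(Ps.comap π)) := D.isComm hn
  exact h3.map (Ps.comap π).subtype

end

/-! ### the second parabolic subgroup -/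

theorem tabPl : ∀ r < 48, plP r = true → bar r < 48 ∧ psP (bar r) = true := by decide +kernel

theorem tabQl : ∀ r < 48, w33 r = true → bar r < 48 ∧ bar (bar r) = r ∧ Cfsg.Agent.H434.FF.ql (bar r) = true := by
  decide +kernel

theorem map_Pl {α : LL ≃* LL} (hα : ∀ r < 48, α (x r) = x (bar r)) {g : LL} (hg : g ∈ Pl) : α g ∈ Ps := by
  have h : Pl ≤ Ps.comap α.toMonoidHom := RG_le fun r hr hp => by
    show α (x r) ∈ Ps
    rw [hα r hr]
    exact x_mem_RG (tabPl r hr hp).1 (tabPl r hr hp).2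
  exact h hg

theorem map_ql {α : LL ≃* LL} (hα : ∀ r < 48, α (x r) = x (bar r)) {g : LL} (hg : α g ∈ RG w33) :
    g ∈ RG Cfsg.Agent.H434.FF.ql := by
  have h : RG w33 ≤ (RG Cfsg.Agent.H434.FF.ql).map α.toMonoidHom := RG_le fun r hr hp => by
    obtain ⟨h1, h2, h3⟩ := tabQl r hr hp
    refine ⟨x (bar r), x_mem_RG h1 h3, ?_⟩
    show α (x (bar r)) = x r
    rw [hα _ h1, h2]
  obtain ⟨y, hy, e⟩ := h hg
  rw [← α.injective e]
  exact hy

theorem lev1 : Cfsg.Agent.H326.F4C.lev Cfsg.Agent.H326.F4C.s1 ≤ Ps := by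
  unfold Cfsg.Agent.H326.F4C.lev
  rw [Subgroup.closure_le]
  rintro _ ⟨r, hr, rfl⟩
  have h : ∀ r ∈ Cfsg.Agent.H326.F4C.s1, r < 48 ∧ psP r = true := by decide
  exact x_mem_RG (h r hr).1 (h r hr).2

theorem lev2 : Cfsg.Agent.H326.F4C.lev Cfsg.Agent.H326.F4C.s2 ≤ Pl := by
  unfold Cfsg.Agent.H326.F4C.lev
  rw [Subgroup.closure_le]
  rintro _ ⟨r, hr, rfl⟩
  have h : ∀ r ∈ Cfsg.Agent.H326.F4C.s2, r < 48 ∧ plP r = true := by decide
  exact x_mem_RG (h r hr).1 (h r hr).2

/-- **every element of the double cover is a commutator** -/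
theorem allC_of (H : Cfsg.Agent.H326.F4C.H16) {Γ : Type} [Group Γ] [Finite Γ] (K : Cfsg.Agent.H763.TwoF4.Cov Γ)
    (hπ : PCE K.σ) (h2 : Nat.card K.σ.ker = 2) : AllC Γ := by
  intro g
  obtain ⟨α, hα⟩ := exists_graph
  by_cases h1 : K.σ g = 1
  · exact Cfsg.Agent.H763.TwoF4.isC_ker K h1
  have conj : ∀ y : LL, (∀ g' : Γ, K.σ g' = y * K.σ g * y⁻¹ → IsComm g') → IsC g := by
    intro y hy
    obtain ⟨y', rfl⟩ := K.surj y
    have h3 := hy (y' * g * y'⁻¹) (by simp only [map_mul, map_inv])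
    have h4 := h3.conj y'⁻¹
    rwa [show y'⁻¹ * (y' * g * y'⁻¹) * y'⁻¹⁻¹ = g by group] at h4
  have hker : (α.toMonoidHom.comp K.σ).ker = K.σ.ker := by
    ext k
    rw [MonoidHom.mem_ker, MonoidHom.mem_ker]
    show α (K.σ k) = 1 ↔ _
    rw [map_eq_one_iff α α.injective]
  have hπ' : PCE (α.toMonoidHom.comp K.σ) := ⟨α.surjective.comp hπ.surj, hker ▸ hπ.cen, hπ.perf⟩
  have par : (∃ y, y * K.σ g * y⁻¹ ∈ Ps ∨ y * K.σ g * y⁻¹ ∈ Pl) → IsC g := by
    intro h
    rcases Cfsg.Agent.H434.FF.not_rad h1 h with ⟨y, h3, h4⟩ | ⟨y, h3, h4⟩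
    · exact conj y fun g' e => isComm_par hπ h2 (by rw [e]; exact h3) (by rw [e]; exact h4)
    · refine conj y fun g' e => isComm_par hπ' (by rw [hker]; exact h2) ?_ ?_
      · show α (K.σ g') ∈ Ps
        rw [e]
        exact map_Pl hα h3
      · intro h5
        have h6 := map_ql hα h5
        rw [e] at h6
        exact h4 h6
  rcases Nat.even_or_odd (orderOf (K.σ g)) with he | ho
  · exact par (Cfsg.Agent.H824.Fs.exists_conj_par _ he)
  · rcases Cfsg.Agent.H326.F4C.cases H ho with ⟨y, hy⟩ | ⟨y, hy⟩ | h | h | h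
    · exact par ⟨y, Or.inl (lev1 hy)⟩
    · exact par ⟨y, Or.inr (lev2 hy)⟩
    · exact Cfsg.Agent.H763.TwoF4.isC_13 K (fun _ _ => Cfsg.Agent.H326.F4C.conj13 H) h
    · exact Cfsg.Agent.H763.TwoF4.isC_17 K (fun _ _ => Cfsg.Agent.H326.F4C.conj17 H) h
    · exact Cfsg.Agent.H763.TwoF4.isC_21 K hα (fun _ _ => Cfsg.Agent.H326.F4C.conj21 H hα) h

/-- the row from the number of odd classes -/
theorem rowA_of (H : Cfsg.Agent.H326.F4C.H16) : RowA LL :=
  Cfsg.Agent.H763.TwoF4.rowA_of fun _ _ _ K h1 h2 => allC_of H K h1 h2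

/-- the row for the field with two elements -/
theorem rowA_F4 (H : Cfsg.Agent.H326.F4C.H16) (F : Type*) [Field F] [Fintype F] (h : Fintype.card F = 2) :
    RowA ↥(chevF4.group F) := by
  obtain ⟨e⟩ := Cfsg.Agent.FourTwo.Mult.exists_equiv F h
  exact (rowA_of H).congr e.symm

end Cfsg.Agent.H374.QS.FF
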