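import Cfsg.Agent.H374.QS.FF.Cert
import Cfsg.Agent.FourTwo.Lift
import Cfsg.Agent.FourTwo.CentC
import Cfsg.Agent.FourTwo.ClassSep

/-!
# 2.F₄(2): the preimage of `P_s`, the module `A = 2^7` (helper374)

`PD b z f` : `f : P →* LL` with kernel `⟨z⟩`, `b r` (`15 ≤ r < 48`) lifts of the root elements of `P_s` with signs
such that `A = ⟨b 41, …, b 47⟩` is normal and does not contain `z`.
* `R2 g s` : `g` acts on `A / ⟨b 44⟩` as `s : Sp₆(2)`; `total`, `surj`, `ker_R` (the kernel is `Q`).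
-/

set_option autoImplicit false

namespace Cfsg.Agent.H374.QS.FF

open Cfsg.Lie Cfsg.Agent.H612.Ore
open Cfsg.Agent.FourTwo.Comm Cfsg.Agent.FourTwo.Par
open Cfsg.Agent.FourTwo.Cent (psP Ps)
open Cfsg.Agent.FourTwo.CentAll (isShort)
open Cfsg.Agent.FourTwo.Base (LL x)
open Cfsg.Agent.SporRec.TwoSp6.Sp (V S om tr act enc exists_enc)

/-- the roots of `W_s`, `Q_s` -/
def w41 (r : ℕ) : Bool := decide (41 ≤ r)

@[inherit_doc w41] def w33 (r : ℕ) : Bool := decide (33 ≤ r)

/-- the sign of the commutator relation -/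
def sgB (r s : ℕ) : Bool :=
  ((cmg r s).countP isShort + (if (cmg r s).length = 2 then 1 else 0)) % 2 == 1

/-- a power of `z` -/
def sz {P : Type*} [Group P] (z : P) (e : Bool) : P := if e = true then z else 1

/-- products of words -/
def wb {P : Type*} [Group P] (b : ℕ → P) (w : List ℕ) : P := (w.map b).prod

/-- the code of a word -/
def cdw (lo : ℕ) (w : List ℕ) : ℕ := w.foldr (fun c v => 2 ^ (c - lo) ^^^ v) 0

/-- a lift of the parabolic subgroup `P_s` -/
structure PD {P : Type*} [Group P] (b : ℕ → P) (z : P) (f : P →* LL) : Prop where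
  z1 : z ≠ 1
  z2 : z * z = 1
  zc : ∀ g, g * z = z * g
  fz : f z = 1
  sq : ∀ r, 15 ≤ r → r < 48 → b r * b r = 1
  cj : ∀ r, 15 ≤ r → r < 48 → ∀ s, 15 ≤ s → s < 48 → r ≠ s → r + s ≠ 47 →
    b r * b s * (b r)⁻¹ = sz z (sgB r s) * wb b (s :: cmg r s)
  mp : ∀ r, 15 ≤ r → r < 48 → f (b r) = x r
  ker : ∀ g, f g = 1 → g = 1 ∨ g = z
  gen : Subgroup.closure ({g | ∃ r, 15 ≤ r ∧ r < 48 ∧ g = b r} ∪ {z}) = ⊤

/-! ### tables -/

theorem allR {a n : ℕ} {p : ℕ → Bool} (h : ((List.range n).all fun i => p (a + i)) = true) {r : ℕ} (h1 : a ≤ r)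
    (h2 : r < a + n) : p r = true := by
  have h3 := List.all_eq_true.1 h (r - a) (List.mem_range.2 (by omega))
  rwa [show a + (r - a) = r by omega] at h3

def t2 (r s : ℕ) : Bool := if r = s then col 7 (cAr r) (s - 41) == 2 ^ (s - 41) else
  ((cmg r s).all fun c => decide (41 ≤ c) && decide (c < 48)) && !(sgB r s) &&
    (cdw 41 (s :: cmg r s) == col 7 (cAr r) (s - 41))

def t3 (r s : ℕ) : Bool := r == s || (if r + s = 73 then cmg r s == [44] && sgB r s else cmg r s == [] && !sgB r s)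

def t4 (r s : ℕ) : Bool := ((cmg r s).all fun c => decide (33 ≤ c) && decide (c < 48)) &&
  (cdw 33 ((s :: cmg r s).filter fun c => decide (c < 41)) == col 8 (cVs.getD (r - 15) 0) (s - 33))

def t5 (r s : ℕ) : Bool := r == s || (cmg r s == [] && !sgB r s)

theorem tab2 : ((List.range 33).all fun i => (List.range 7).all fun j => t2 (15 + i) (41 + j)) = true := by
  decide +kernel
theorem tab3 : ((List.range 8).all fun i => (List.range 8).all fun j => t3 (33 + i) (33 + j)) = true := by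
  decide +kernel
theorem tab4 : ((List.range 18).all fun i => (List.range 8).all fun j => t4 (15 + i) (33 + j)) = true := by
  decide +kernel
theorem tab5 : ((List.range 7).all fun i => (List.range 15).all fun j => t5 (41 + i) (33 + j)) = true := by
  decide +kernel
theorem tab6 : ((List.range 15).all fun i => (List.range 7).all fun j => t5 (33 + i) (41 + j)) = true := by
  decide +kernel

theorem t2_of {r s : ℕ} (h1 : 15 ≤ r) (h2 : r < 48) (h3 : 41 ≤ s) (h4 : s < 48) : t2 r s = true :=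
  allR (p := fun s => t2 r s) (allR (p := fun r => (List.range 7).all fun j => t2 r (41 + j)) tab2 h1 (by omega)) h3
    (by omega)
theorem t3_of {r s : ℕ} (h1 : 33 ≤ r) (h2 : r < 41) (h3 : 33 ≤ s) (h4 : s < 41) : t3 r s = true :=
  allR (p := fun s => t3 r s) (allR (p := fun r => (List.range 8).all fun j => t3 r (33 + j)) tab3 h1 (by omega)) h3
    (by omega)
theorem t4_of {r s : ℕ} (h1 : 15 ≤ r) (h2 : r < 33) (h3 : 33 ≤ s) (h4 : s < 41) : t4 r s = true :=
  allR (p := fun s => t4 r s) (allR (p := fun r => (List.range 8).all fun j => t4 r (33 + j)) tab4 h1 (by omega)) h3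
    (by omega)
theorem t5_of {r s : ℕ} (h1 : 41 ≤ r) (h2 : r < 48) (h3 : 33 ≤ s) (h4 : s < 48) : t5 r s = true :=
  allR (p := fun s => t5 r s) (allR (p := fun r => (List.range 15).all fun j => t5 r (33 + j)) tab5 h1 (by omega)) h3
    (by omega)
theorem t6_of {r s : ℕ} (h1 : 33 ≤ r) (h2 : r < 48) (h3 : 41 ≤ s) (h4 : s < 48) : t5 r s = true :=
  allR (p := fun s => t5 r s) (allR (p := fun r => (List.range 7).all fun j => t5 r (41 + j)) tab6 h1 (by omega)) h3
    (by omega)

section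

variable {P : Type*} [Group P] {b : ℕ → P} {z : P} {f : P →* LL}

theorem sz_false : sz z false = 1 := by simp [sz]
theorem sz_true : sz z true = z := by simp [sz]
theorem wb_nil : wb b [] = 1 := rfl
theorem wb_cons (r : ℕ) (w : List ℕ) : wb b (r :: w) = b r * wb b w := by simp [wb]

/-- the basis of `A` -/
abbrev tA (b : ℕ → P) (k : ℕ) : P := b (41 + k)

section

variable (D : PD b z f)

include D

theorem PD.comm_of {r s : ℕ} (h1 : 15 ≤ r) (h2 : r < 48) (h3 : 15 ≤ s) (h4 : s < 48) (h5 : r + s ≠ 47)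
    (h : t5 r s = true) : b r * b s = b s * b r := by
  by_cases e : r = s
  · rw [e]
  · rw [t5, Bool.or_eq_true, Bool.and_eq_true, beq_iff_eq, beq_iff_eq, Bool.not_eq_true'] at h
    rcases h with h | ⟨h, h'⟩
    · exact absurd h e
    · have := D.cj r h1 h2 s h3 h4 e h5
      rw [h', h, sz_false, one_mul, wb_cons, wb_nil, mul_one] at this
      rw [← mul_inv_eq_iff_eq_mul]
      exact this

/-- `W_s` and `Q_s` commute -/
theorem PD.commAQ {r s : ℕ} (h1 : 33 ≤ r) (h2 : r < 48) (h3 : 41 ≤ s) (h4 : s < 48) : b r * b s = b s * b r :=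
  D.comm_of (by omega) h2 (by omega) h4 (by omega) (t6_of h1 h2 h3 h4)

theorem PD.eA : EAb (tA b) 7 where
  sq i hi := D.sq (41 + i) (by omega) (by omega)
  cm i hi j hj := D.commAQ (by omega) (by omega) (by omega) (by omega)

theorem PD.wb_code {w : List ℕ} (h : ∀ c ∈ w, 41 ≤ c ∧ c < 48) : wb b w = el (tA b) 7 (cdw 41 w) := by
  induction w with
  | nil => rw [wb_nil, cdw, List.foldr_nil, el_zero]
  | cons c w ih =>
    have hc := h c List.mem_cons_self
    have e : cdw 41 (c :: w) = 2 ^ (c - 41) ^^^ cdw 41 w := rfl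
    rw [wb_cons, ih fun d hd => h d (List.mem_cons_of_mem _ hd), e, D.eA.el_xor le_rfl,
      el_two_pow (show c - 41 < 7 by omega)]
    show b c * _ = b (41 + (c - 41)) * _
    rw [show 41 + (c - 41) = c by omega]

theorem PD.actA {r : ℕ} (h1 : 15 ≤ r) (h2 : r < 48) : ActsC (tA b) 7 (b r) (cAr r) := by
  intro i hi
  have h := t2_of h1 h2 (show 41 ≤ 41 + i by omega) (show 41 + i < 48 by omega)
  unfold t2 at h
  rw [show 41 + i - 41 = i by omega] at h
  show b r * b (41 + i) * (b r)⁻¹ = _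
  by_cases e : r = 41 + i
  · rw [if_pos e, beq_iff_eq] at h
    rw [h, el_two_pow hi, ← e, mul_inv_cancel_right, e]
  · rw [if_neg e, Bool.and_eq_true, Bool.and_eq_true, List.all_eq_true, beq_iff_eq, Bool.not_eq_true'] at h
    obtain ⟨⟨h3, h4⟩, h5⟩ := h
    rw [D.cj r h1 h2 (41 + i) (by omega) (by omega) e (by omega), h4, sz_false, one_mul, ← h5]
    apply D.wb_code
    intro c hc
    rcases List.mem_cons.1 hc with rfl | hc
    · omega
    · have := h3 c hc
      simpa using this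

/-- `f` on `A` -/
theorem PD.map_el (v : ℕ) : f (el (tA b) 7 v) = el (fun k => x (41 + k)) 7 v := by
  rw [FF.map_el]
  have key : ∀ n, n ≤ 7 → el (fun i => f (tA b i)) n v = el (fun k => x (41 + k)) n v := by
    intro n
    induction n with
    | zero => intro _; rfl
    | succ n ih =>
      intro hn
      rw [el, el, ih (by omega), D.mp (41 + n) (by omega) (by omega)]
  exact key 7 le_rfl

end

/-- uniqueness of the codes in `LL` -/
theorem elx_eq (a n v : ℕ) : el (fun k => x (a + k)) n v =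
    Cfsg.Agent.FourTwo.Base.wd ((List.range' a n).filter fun r => v.testBit (r - a)) := by
  induction n with
  | zero => rfl
  | succ n ih =>
    rw [el, ih, List.range'_1_concat, List.filter_append, Cfsg.Agent.FourTwo.Base.wd_append]
    congr 1
    rw [List.filter_cons, show a + n - a = n by omega, List.filter_nil]
    split_ifs
    · rw [Cfsg.Agent.FourTwo.Base.wd_one]
    · rfl

theorem elx_one {a n v : ℕ} (ha : 24 ≤ a) (hn : a + n ≤ 48) (h : el (fun k => x (a + k)) n v = 1) :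
    ∀ k, k < n → v.testBit k = false := by
  intro k hk
  rw [elx_eq] at h
  have h1 : Cfsg.Agent.FourTwo.Base.wd ((List.range' a n).filter fun r => v.testBit (r - a)) =
      Cfsg.Agent.FourTwo.Base.wd ((List.range' a n).filter fun _ => false) := by
    rw [h, List.filter_false]
    rfl
  have h2 := Cfsg.Agent.FourTwo.BN.nf_unique (by
    intro r hr
    rw [List.mem_range'_1] at hr
    omega) (List.pairwise_lt_range' ..) h1 (a + k) (by rw [List.mem_range'_1]; omega)
  rwa [show a + k - a = k by omega] at h2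

theorem eq_zero_of_bits {n v : ℕ} (hv : v < 2 ^ n) (h : ∀ k, k < n → v.testBit k = false) : v = 0 := by
  apply Nat.eq_of_testBit_eq
  intro i
  rw [Nat.zero_testBit]
  by_cases hi : i < n
  · exact h i hi
  · exact Nat.testBit_lt_two_pow (lt_of_lt_of_le hv (Nat.pow_le_pow_right (by norm_num) (by omega)))

section

variable (D : PD b z f)

include D

theorem PD.el_eq_one {v : ℕ} (hv : v < 128) (h : f (el (tA b) 7 v) = 1) : v = 0 :=
  eq_zero_of_bits (n := 7) hv (elx_one (a := 41) (n := 7) (by norm_num) (by norm_num) (by rw [← D.map_el]; exact h))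

theorem PD.el_ne_z {v : ℕ} : el (tA b) 7 v ≠ z := by
  intro h
  have h1 : f (el (tA b) 7 (v % 2 ^ 7)) = 1 := by rw [← el_mod, h, D.fz]
  have h2 : v % 2 ^ 7 = 0 := D.el_eq_one (Nat.mod_lt _ (by norm_num)) h1
  rw [el_mod, h2, el_zero] at h
  exact D.z1 h.symm

theorem PD.el_inj {u v : ℕ} (hu : u < 128) (hv : v < 128) (h : el (tA b) 7 u = el (tA b) 7 v) : u = v := by
  have h1 : el (tA b) 7 (u ^^^ v) = 1 := by rw [D.eA.el_xor le_rfl, h, D.eA.el_sq]
  have h2 := D.el_eq_one (Nat.xor_lt_two_pow (n := 7) hu hv) (by rw [h1, map_one])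
  exact Nat.xor_eq_zero_iff.1 h2

end

/-! ### the action on `A / ⟨b 44⟩` -/

/-- `g` acts on `A / ⟨b 44⟩` as `s` -/
def RR (b : ℕ → P) (g : P) (s : S) : Prop := ∀ v, v < 128 → ∃ v', v' < 128 ∧
  g * el (tA b) 7 v * g⁻¹ = el (tA b) 7 v' ∧ p6 v' = spAct.ap s (p6 v)

/-- both for `g` and `g⁻¹` -/
def R2 (b : ℕ → P) (g : P) (s : S) : Prop := RR b g s ∧ RR b g⁻¹ s⁻¹

theorem RR.mul {g h : P} {s t : S} (h1 : RR b g s) (h2 : RR b h t) : RR b (g * h) (s * t) := by
  intro v hv
  obtain ⟨v', hv', e1, e2⟩ := h2 v hv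
  obtain ⟨v'', hv'', e3, e4⟩ := h1 v' hv'
  refine ⟨v'', hv'', ?_, ?_⟩
  · rw [← e3, ← e1]; group
  · rw [e4, e2, spAct.mul _ _ _ (p6_lt v hv)]

theorem R2.mul {g h : P} {s t : S} (h1 : R2 b g s) (h2 : R2 b h t) : R2 b (g * h) (s * t) :=
  ⟨h1.1.mul h2.1, by rw [mul_inv_rev, mul_inv_rev]; exact h2.2.mul h1.2⟩

theorem R2.inv {g : P} {s : S} (h : R2 b g s) : R2 b g⁻¹ s⁻¹ := ⟨h.2, by rw [inv_inv, inv_inv]; exact h.1⟩

theorem RR.one : RR b (1 : P) 1 := fun v hv =>
  ⟨v, hv, by group, (spAct.one _ (p6_lt v hv)).symm⟩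

theorem R2.one : R2 b (1 : P) 1 := ⟨RR.one, by rw [inv_one, inv_one]; exact RR.one⟩

/-- centralising elements -/
theorem RR.of_cen {g : P} (h : ∀ k, k < 7 → g * tA b k = tA b k * g) : RR b g 1 := by
  intro v hv
  refine ⟨v, hv, ?_, (spAct.one _ (p6_lt v hv)).symm⟩
  have h1 : g * el (tA b) 7 v = el (tA b) 7 v * g := by
    have key : ∀ n, n ≤ 7 → g * el (tA b) n v = el (tA b) n v * g := by
      intro n
      induction n with
      | zero => intro _; rw [el, mul_one, one_mul]
      | succ n ih =>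
        intro hn
        rw [el, ← mul_assoc, ih (by omega), mul_assoc, mul_assoc]
        congr 1
        split_ifs
        · exact h n (by omega)
        · rw [mul_one, one_mul]
    exact key 7 le_rfl
  rw [h1, mul_inv_cancel_right]

theorem R2.of_cen {g : P} (h : ∀ k, k < 7 → g * tA b k = tA b k * g) : R2 b g 1 := by
  refine ⟨RR.of_cen h, ?_⟩
  rw [inv_one]
  refine RR.of_cen fun k hk => ?_
  have := h k hk
  calc g⁻¹ * tA b k = g⁻¹ * (tA b k * g) * g⁻¹ := by group
    _ = g⁻¹ * (g * tA b k) * g⁻¹ := by rw [this]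
    _ = tA b k * g⁻¹ := by group

theorem sc_sq {j : ℕ} (hj : j < 18) : sc (cls.getD j []) * sc (cls.getD j []) = 1 ∧
    ∀ c ∈ cls.getD j [], c < 64 := by
  have h := List.all_eq_true.1 chkR' j (List.mem_range.2 hj)
  have h1 : ∀ v, v < 64 → (cls.getD j []).foldr st ((cls.getD j []).foldr st v) = v ∧
      ∀ c ∈ cls.getD j [], c < 64 := by
    intro v hv
    have h2 := List.all_eq_true.1 h v (List.mem_range.2 hv)
    rw [Bool.and_eq_true, beq_iff_eq, List.all_eq_true] at h2
    exact ⟨h2.1, fun c hc => by have := h2.2 c hc; rwa [Nat.blt_eq] at this⟩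
  have h2 := (h1 0 (by norm_num)).2
  refine ⟨?_, h2⟩
  apply spAct.ext
  intro k hk
  have hk2 : 2 ^ k < 64 := two_pow_lt (n := 6) hk
  obtain ⟨e1, e2⟩ := ap_sc h2 hk2
  rw [spAct.mul _ _ _ hk2, e1, (ap_sc h2 e2).1, (h1 _ hk2).1, spAct.one _ hk2]

section

variable (D : PD b z f)

include D

theorem PD.R2_z : R2 b z 1 := R2.of_cen fun k _ => (D.zc _).symm

theorem PD.R2_big {r : ℕ} (h1 : 33 ≤ r) (h2 : r < 48) : R2 b (b r) 1 :=
  R2.of_cen fun _ hk => D.commAQ h1 h2 (by omega) (by omega)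

theorem PD.R2_lev {j : ℕ} (hj : j < 18) : R2 b (b (15 + j)) (sc (cls.getD j [])) := by
  obtain ⟨h1, h2⟩ := sc_sq hj
  have e1 : (b (15 + j))⁻¹ = b (15 + j) := inv_eq_of_mul_eq_one_right (D.sq _ (by omega) (by omega))
  have e2 : (sc (cls.getD j []))⁻¹ = sc (cls.getD j []) := inv_eq_of_mul_eq_one_right h1
  have h3 : RR b (b (15 + j)) (sc (cls.getD j [])) := by
    intro v hv
    refine ⟨apc 7 (cAr (15 + j)) v, apc_lt' 7 _ _, conj_el D.eA (D.actA (by omega) (by omega)) v, ?_⟩
    have h4 := List.all_eq_true.1 (List.all_eq_true.1 chkR j (List.mem_range.2 hj)) v (List.mem_range.2 hv)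
    rw [beq_iff_eq] at h4
    rw [cAr, if_pos (by omega), show 15 + j - 15 = j by omega, h4, (ap_sc h2 (p6_lt v hv)).1]
  refine ⟨h3, ?_⟩
  rw [e1, e2]
  exact h3

theorem PD.R2_b {r : ℕ} (h1 : 15 ≤ r) (h2 : r < 48) : ∃ s, R2 b (b r) s := by
  by_cases h : r < 33
  · have := D.R2_lev (show r - 15 < 18 by omega)
    rw [show 15 + (r - 15) = r by omega] at this
    exact ⟨_, this⟩
  · exact ⟨1, D.R2_big (by omega) h2⟩

theorem PD.total (g : P) : ∃ s, R2 b g s := by
  have hg : g ∈ Subgroup.closure ({g | ∃ r, 15 ≤ r ∧ r < 48 ∧ g = b r} ∪ {z}) := by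
    rw [D.gen]; exact Subgroup.mem_top _
  induction hg using Subgroup.closure_induction with
  | mem g hg =>
    rcases hg with ⟨r, h1, h2, rfl⟩ | hg
    · exact D.R2_b h1 h2
    · rw [Set.mem_singleton_iff] at hg
      exact ⟨1, by rw [hg]; exact D.R2_z⟩
  | one => exact ⟨1, R2.one⟩
  | mul g h _ _ h1 h2 =>
    obtain ⟨s, hs⟩ := h1
    obtain ⟨t, ht⟩ := h2
    exact ⟨s * t, hs.mul ht⟩
  | inv g _ h =>
    obtain ⟨s, hs⟩ := h
    exact ⟨s⁻¹, hs.inv⟩

end

/-- words for the generators `v i` -/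
def vws : List (List ℕ) := [[18], [22, 28, 22], [29], [15, 18, 19], [28], [17, 19, 20], [27]]

theorem vws_chk : ((List.range 7).all fun i => ((vws.getD i []).all fun r => Nat.ble 15 r && Nat.blt r 33) &&
    (List.range 64).all fun v => ((vws.getD i []).foldr (fun r v => (cls.getD (r - 15) []).foldr st v) v) ==
      st ([1, 48, 8, 3, 16, 6, 32].getD i 0) v) = true := by decide +kernel

/-- the element of `Sp₆(2)` of a word in the Levi letters -/
def scw (w : List ℕ) : S := (w.map fun r => sc (cls.getD (r - 15) [])).prod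

theorem ap_scw {w : List ℕ} (hw : ∀ r ∈ w, 15 ≤ r ∧ r < 33) {v : ℕ} (hv : v < 64) :
    spAct.ap (scw w) v = w.foldr (fun r v => (cls.getD (r - 15) []).foldr st v) v ∧
      w.foldr (fun r v => (cls.getD (r - 15) []).foldr st v) v < 64 := by
  induction w with
  | nil => exact ⟨spAct.one v hv, hv⟩
  | cons r w ih =>
    obtain ⟨h1, h2⟩ := ih fun c hc => hw c (List.mem_cons_of_mem _ hc)
    have hr := hw r List.mem_cons_self
    have e : scw (r :: w) = sc (cls.getD (r - 15) []) * scw w := by simp [scw]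
    obtain ⟨h3, h4⟩ := ap_sc (sc_sq (show r - 15 < 18 by omega)).2 h2
    refine ⟨?_, ?_⟩
    · rw [e, spAct.mul _ _ _ hv, h1, h3, List.foldr_cons]
    · rw [List.foldr_cons]; exact h4

section

variable (D : PD b z f)

include D

theorem PD.R2_word {w : List ℕ} (hw : ∀ r ∈ w, 15 ≤ r ∧ r < 33) : R2 b (wd b w) (scw w) := by
  induction w with
  | nil => exact R2.one
  | cons r w ih =>
    have hr := hw r List.mem_cons_self
    have e : scw (r :: w) = sc (cls.getD (r - 15) []) * scw w := by simp [scw]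
    rw [wd, e]
    refine R2.mul ?_ (ih fun c hc => hw c (List.mem_cons_of_mem _ hc))
    have := D.R2_lev (show r - 15 < 18 by omega)
    rwa [show 15 + (r - 15) = r by omega] at this

theorem PD.surj (s : S) : ∃ g : P, R2 b g s := by
  have hs : s ∈ Subgroup.closure (Set.range fun i => tr (Cfsg.Agent.SporRec.TwoSp6.Sp.v i)) := by
    rw [Cfsg.Agent.SporRec.TwoSp6.Sp.closure_v]; exact Subgroup.mem_top _
  induction hs using Subgroup.closure_induction with
  | mem s hs =>
    obtain ⟨i, rfl⟩ := hs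
    have h := List.all_eq_true.1 vws_chk i.val (List.mem_range.2 i.2)
    rw [Bool.and_eq_true, List.all_eq_true, List.all_eq_true] at h
    have hw : ∀ r ∈ vws.getD i.val [], 15 ≤ r ∧ r < 33 := by
      intro r hr
      have := h.1 r hr
      rw [Bool.and_eq_true, Nat.ble_eq, Nat.blt_eq] at this
      exact this
    refine ⟨wd b (vws.getD i.val []), ?_⟩
    have e : scw (vws.getD i.val []) = tr (Cfsg.Agent.SporRec.TwoSp6.Sp.v i) := by
      apply spAct.ext
      intro k hk
      have hk2 : 2 ^ k < 64 := two_pow_lt (n := 6) hk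
      have h2 := h.2 _ (List.mem_range.2 hk2)
      rw [beq_iff_eq] at h2
      have hc : ([1, 48, 8, 3, 16, 6, 32] : List ℕ).getD i.val 0 < 64 := by
        have : ∀ i : Fin 7, ([1, 48, 8, 3, 16, 6, 32] : List ℕ).getD i.val 0 < 64 := by decide
        exact this i
      rw [(ap_scw hw hk2).1, h2, ← ap_trc hc hk2]
      rfl
    have h3 := D.R2_word hw
    rw [e] at h3
    exact h3
  | one => exact ⟨1, R2.one⟩
  | mul s t _ _ h1 h2 =>
    obtain ⟨g, hg⟩ := h1
    obtain ⟨h, hh⟩ := h2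
    exact ⟨g * h, hg.mul hh⟩
  | inv s _ h =>
    obtain ⟨g, hg⟩ := h
    exact ⟨g⁻¹, hg.inv⟩

end

theorem p6_surj : ∀ w < 64, ∃ v < 128, p6 v = w := by decide +kernel

section

variable (D : PD b z f)

include D

theorem PD.uniq {g : P} {s t : S} (h1 : RR b g s) (h2 : RR b g t) : s = t := by
  apply spAct.ext
  intro k hk
  obtain ⟨v, hv, e⟩ := p6_surj (2 ^ k) (two_pow_lt (n := 6) hk)
  obtain ⟨v1, hv1, e1, e2⟩ := h1 v hv
  obtain ⟨v2, hv2, e3, e4⟩ := h2 v hv
  have : v1 = v2 := D.el_inj hv1 hv2 (by rw [← e1, e3])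
  rw [← e, ← e2, ← e4, this]

theorem PD.R2_of_RR {g : P} {s : S} (h : RR b g s) : R2 b g s := by
  obtain ⟨t, ht⟩ := D.total g
  rw [D.uniq h ht.1]
  exact ht

/-- `A` is normal -/
theorem PD.conjA (g : P) {v : ℕ} (hv : v < 128) : ∃ v', v' < 128 ∧ g * el (tA b) 7 v * g⁻¹ = el (tA b) 7 v' := by
  obtain ⟨s, hs⟩ := D.total g
  obtain ⟨v', hv', e, -⟩ := hs.1 v hv
  exact ⟨v', hv', e⟩

end

theorem sepk : ∀ k : Fin 7, k ≠ 3 → Cfsg.Agent.FourTwo.ClassSep.iv [41 + k.val] ≠
    Cfsg.Agent.FourTwo.ClassSep.iv [41 + k.val, 44] := by decide +kernel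

section

variable (D : PD b z f)

include D

/-- the kernel of the action is `Q` -/
theorem PD.ker_R {g : P} (h : RR b g 1) : f g ∈ RG w33 := by
  have hc : ∀ k, k < 7 → f g * x (41 + k) = x (41 + k) * f g := by
    intro k hk
    have hk2 : 2 ^ k < 128 := two_pow_lt (n := 7) hk
    obtain ⟨v', hv', e1, e2⟩ := h (2 ^ k) hk2
    rw [spAct.one _ (p6_lt _ hk2)] at e2
    rw [el_two_pow hk] at e1
    by_cases h3 : k = 3
    · subst h3
      have e3 : p6 (2 ^ 3) = 0 := by decide
      rw [e3] at e2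
      rcases p6_zero v' hv' e2 with rfl | rfl
      · rw [el_zero] at e1
        have e4 : b 44 = 1 := by
          have : tA b 3 = g⁻¹ * (g * tA b 3 * g⁻¹) * g := by group
          rw [e1] at this
          simpa using this
        have e5 := D.mp 44 (by norm_num) (by norm_num)
        rw [e4, map_one] at e5
        exact absurd e5.symm (Cfsg.Agent.FourTwo.BN.x_ne_one (by norm_num))
      · have e4 : el (tA b) 7 8 = tA b 3 := el_two_pow (t := tA b) (n := 7) (i := 3) (by norm_num)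
        rw [e4] at e1
        have e5 := congrArg f e1
        rw [map_mul, map_mul, map_inv, D.mp 44 (by norm_num) (by norm_num), mul_inv_eq_iff_eq_mul] at e5
        exact e5
    · rcases p6_two_pow v' hv' k hk h3 e2 with rfl | rfl
      · rw [el_two_pow hk] at e1
        have e5 := congrArg f e1
        rw [map_mul, map_mul, map_inv, D.mp (41 + k) (by omega) (by omega), mul_inv_eq_iff_eq_mul] at e5
        exact e5
      · exfalso
        rw [D.eA.el_xor le_rfl, el_two_pow hk, show (8 : ℕ) = 2 ^ 3 by norm_num, el_two_pow (by norm_num)] at e1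
        have e5 := congrArg f e1
        rw [map_mul, map_mul, map_inv, map_mul, D.mp (41 + k) (by omega) (by omega),
          D.mp 44 (by norm_num) (by norm_num)] at e5
        have e6 := Cfsg.Agent.FourTwo.ClassSep.sep (w := [41 + k]) (w' := [41 + k, 44]) (by simp; omega)
          (by simp; omega) (sepk ⟨k, hk⟩ (by intro h; apply h3; exact congrArg Fin.val h)) (f g)
        apply e6
        rw [Cfsg.Agent.FourTwo.Base.wd_one, e5, Cfsg.Agent.FourTwo.Base.wd_cons, Cfsg.Agent.FourTwo.Base.wd_one]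
  obtain ⟨a, ha, e⟩ := Cfsg.Agent.FourTwo.CentC.centW (g := ((f g : LL) : GL chevF4.Idx (ZMod 2))) (f g).2
    (fun k hk => by
      have := congrArg (fun y : LL => (y : GL chevF4.Idx (ZMod 2))) (hc k hk)
      exact this)
  have h9 := Cfsg.Agent.FourTwo.CentW.E_mem_NN a 9
  rw [← e] at h9
  have key : ∀ y ∈ Cfsg.Agent.FourTwo.CentW.NN 9, ∃ u ∈ RG w33, (u : GL chevF4.Idx (ZMod 2)) = y := by
    have : Cfsg.Agent.FourTwo.CentW.NN 9 ≤ (RG w33).map (chevF4.group (ZMod 2)).subtype := by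
      unfold Cfsg.Agent.FourTwo.CentW.NN
      rw [Subgroup.closure_le]
      rintro _ ⟨i, h1, h2, rfl⟩
      exact ⟨x (24 + i), x_mem_RG (by omega) (by unfold w33; rw [decide_eq_true_eq]; omega), rfl⟩
    intro y hy
    obtain ⟨u, hu, e⟩ := this hy
    exact ⟨u, hu, e⟩
  obtain ⟨u, hu, e'⟩ := key _ h9
  have : u = f g := Subtype.ext e'
  rwa [← this]

end

end

end Cfsg.Agent.H374.QS.FF
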