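import Cfsg.Agent.H374.QS.FF.ParA

/-!
# 2.F₄(2): both lifts of the elements of `P_s ∖ Q_s` are commutators (helper374)

`P / A = 2^{1+8}.Sp₆(2)`: `es` (the structure `ES` of `H6.ORE.Extra`), `PD.isComm` : every `g : P` with
`f g ∉ Q_s` is a commutator.
-/

set_option autoImplicit false

namespace Cfsg.Agent.H374.QS.FF

open Cfsg.Lie Cfsg.Agent.H612.Ore Cfsg.Agent.H6.ORE
open Cfsg.Agent.FourTwo.Comm Cfsg.Agent.FourTwo.Par
open Cfsg.Agent.FourTwo.Cent (psP Ps)
open Cfsg.Agent.FourTwo.Base (LL x)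
open Cfsg.Agent.SporRec.TwoSp6.Sp (V S om tr act enc exists_enc)

variable {P : Type*} [Group P] {b : ℕ → P} {z : P} {f : P →* LL}

/-- the preimage of `Q_s` -/
def QQ (f : P →* LL) : Subgroup P := (RG w33).comap f

/-- the preimage of `W_s` -/
def ZZ (f : P →* LL) : Subgroup P := (RG w41).comap f

/-- the complement of `⟨z⟩` in the preimage of `W_s` -/
def AA (b : ℕ → P) : Subgroup P := Subgroup.closure {g | ∃ k, k < 7 ∧ g = tA b k}

theorem norm33 : normB psP w33 = true := by decide +kernel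
theorem norm41 : normB psP w41 = true := by decide +kernel

section

variable (D : PD b z f)

include D

theorem PD.fP (g : P) : f g ∈ RG psP := by
  have h1 : (⊤ : Subgroup P) ≤ (RG psP).comap f := by
    rw [← D.gen, Subgroup.closure_le]
    rintro g (⟨r, h1, h2, rfl⟩ | hg)
    · show f (b r) ∈ RG psP
      rw [D.mp r h1 h2]
      exact x_mem_RG h2 (by unfold psP; simpa using h1)
    · rw [Set.mem_singleton_iff] at hg
      subst hg
      show f _ ∈ RG psP
      rw [D.fz]
      exact one_mem _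
  exact h1 (Subgroup.mem_top g)

theorem PD.normQ : (QQ f).Normal where
  conj_mem q hq g := by
    show f (g * q * g⁻¹) ∈ RG w33
    rw [map_mul, map_mul, map_inv]
    exact conj_mem norm33 (D.fP g) hq

theorem PD.normZ : (ZZ f).Normal where
  conj_mem q hq g := by
    show f (g * q * g⁻¹) ∈ RG w41
    rw [map_mul, map_mul, map_inv]
    exact conj_mem norm41 (D.fP g) hq

theorem PD.mem_AA {g : P} (h : g ∈ AA b) : ∃ v, v < 128 ∧ g = el (tA b) 7 v := by
  unfold AA at h
  induction h using Subgroup.closure_induction with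
  | mem g hg =>
    obtain ⟨k, hk, rfl⟩ := hg
    exact ⟨2 ^ k, two_pow_lt (n := 7) hk, (el_two_pow hk).symm⟩
  | one => exact ⟨0, by norm_num, (el_zero _).symm⟩
  | mul g h _ _ h1 h2 =>
    obtain ⟨u, hu, rfl⟩ := h1
    obtain ⟨v, hv, rfl⟩ := h2
    exact ⟨u ^^^ v, Nat.xor_lt_two_pow (n := 7) hu hv, (D.eA.el_xor le_rfl u v).symm⟩
  | inv g _ h =>
    obtain ⟨u, hu, rfl⟩ := h
    exact ⟨u, hu, D.eA.el_inv u⟩

omit D in
theorem el_mem_AA (v : ℕ) : el (tA b) 7 v ∈ AA b :=
  el_mem (fun i hi => show tA b i ∈ AA b from Subgroup.subset_closure ⟨i, hi, rfl⟩) v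

theorem PD.normA : (AA b).Normal where
  conj_mem q hq g := by
    obtain ⟨v, hv, rfl⟩ := D.mem_AA hq
    obtain ⟨v', -, e⟩ := D.conjA g hv
    rw [e]
    exact el_mem_AA v'

theorem PD.commA : ∀ x ∈ AA b, ∀ y ∈ AA b, x * y = y * x := by
  intro x hx y hy
  obtain ⟨u, -, rfl⟩ := D.mem_AA hx
  obtain ⟨v, -, rfl⟩ := D.mem_AA hy
  exact D.eA.el_comm u v

theorem PD.z_notMem : z ∉ AA b := by
  intro h
  obtain ⟨v, -, e⟩ := D.mem_AA h
  exact D.el_ne_z e.symm

theorem PD.fAA : ∀ g ∈ AA b, g ∈ ZZ f := by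
  have : AA b ≤ ZZ f := by
    unfold AA
    rw [Subgroup.closure_le]
    rintro _ ⟨k, hk, rfl⟩
    show f (b (41 + k)) ∈ RG w41
    rw [D.mp _ (by omega) (by omega)]
    exact x_mem_RG (by omega) (by unfold w41; rw [decide_eq_true_eq]; omega)
  exact fun g hg => this hg

theorem PD.z_mem (w : ℕ → Bool) : f z ∈ RG w := by rw [D.fz]; exact one_mem _

/-- the preimage of `W_s` is `A × ⟨z⟩` -/
theorem PD.mem_ZZ {g : P} (h : g ∈ ZZ f) : ∃ a ∈ AA b, g = a ∨ g = a * z := by
  have h1 : RG w41 ≤ (AA b).map f := RG_le fun r hr hw => by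
    unfold w41 at hw
    rw [decide_eq_true_eq] at hw
    refine ⟨b r, Subgroup.subset_closure ⟨r - 41, by omega, ?_⟩, D.mp r (by omega) hr⟩
    show b r = b (41 + (r - 41))
    rw [show 41 + (r - 41) = r by omega]
  obtain ⟨a, ha, e⟩ := h1 h
  have h2 : f (a⁻¹ * g) = 1 := by rw [map_mul, map_inv, e, inv_mul_cancel]
  refine ⟨a, ha, ?_⟩
  rcases D.ker _ h2 with h3 | h3
  · left; exact (inv_mul_eq_one.1 h3).symm
  · right; rw [← h3]; group

/-- the generators of the preimage of `Q_s` -/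
theorem PD.mem_QQ {g : P} (h : g ∈ QQ f) :
    ∃ a ∈ Subgroup.closure {g | ∃ r, 33 ≤ r ∧ r < 48 ∧ g = b r}, g = a ∨ g = a * z := by
  have h1 : RG w33 ≤ (Subgroup.closure {g | ∃ r, 33 ≤ r ∧ r < 48 ∧ g = b r}).map f := RG_le fun r hr hw => by
    unfold w33 at hw
    rw [decide_eq_true_eq] at hw
    exact ⟨b r, Subgroup.subset_closure ⟨r, hw, hr, rfl⟩, D.mp r (by omega) hr⟩
  obtain ⟨a, ha, e⟩ := h1 h
  have h2 : f (a⁻¹ * g) = 1 := by rw [map_mul, map_inv, e, inv_mul_cancel]
  refine ⟨a, ha, ?_⟩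
  rcases D.ker _ h2 with h3 | h3
  · left; exact (inv_mul_eq_one.1 h3).symm
  · right; rw [← h3]; group

theorem PD.b_mem_QQ {r : ℕ} (h1 : 33 ≤ r) (h2 : r < 48) : b r ∈ QQ f := by
  show f (b r) ∈ RG w33
  rw [D.mp r (by omega) h2]
  exact x_mem_RG h2 (by unfold w33; simpa using h1)

theorem PD.b_mem_ZZ {r : ℕ} (h1 : 41 ≤ r) (h2 : r < 48) : b r ∈ ZZ f := by
  show f (b r) ∈ RG w41
  rw [D.mp r (by omega) h2]
  exact x_mem_RG h2 (by unfold w41; simpa using h1)

end

/-- the basis of `Q / Z` -/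
abbrev tV (b : ℕ → P) (k : ℕ) : P := b (33 + k)

/-- the central element `[b 33, b 40]` -/
def w44 (b : ℕ → P) (z : P) : P := z * b 44

section

variable (D : PD b z f)

include D

theorem PD.w44_sq : w44 b z * w44 b z = 1 := by
  unfold w44
  calc z * b 44 * (z * b 44) = z * (b 44 * z) * b 44 := by group
    _ = z * (z * b 44) * b 44 := by rw [D.zc]
    _ = (z * z) * (b 44 * b 44) := by group
    _ = 1 := by rw [D.z2, D.sq 44 (by norm_num) (by norm_num), one_mul]

theorem PD.w44_cen {r : ℕ} (h1 : 33 ≤ r) (h2 : r < 48) : b r * w44 b z = w44 b z * b r := by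
  unfold w44
  rw [← mul_assoc, D.zc, mul_assoc, D.commAQ h1 h2 (by norm_num) (by norm_num), mul_assoc]

theorem PD.w44_ne : w44 b z ≠ 1 := by
  intro h
  have h1 := congrArg f h
  unfold w44 at h1
  rw [map_mul, D.fz, one_mul, map_one, D.mp 44 (by norm_num) (by norm_num)] at h1
  exact Cfsg.Agent.FourTwo.BN.x_ne_one (by norm_num) h1

theorem PD.w44_notMem : w44 b z ∉ AA b := by
  intro h
  unfold w44 at h
  have h1 : b 44 ∈ AA b := Subgroup.subset_closure ⟨3, by norm_num, rfl⟩
  exact D.z_notMem ((Subgroup.mul_mem_cancel_right _ h1).1 h)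

theorem PD.cj33 {i j : ℕ} (hi : i < 8) (hj : j < 8) :
    tV b i * tV b j * (tV b i)⁻¹ = tV b j * (if i = 7 - j then w44 b z else 1) := by
  show b (33 + i) * b (33 + j) * (b (33 + i))⁻¹ = _
  by_cases e : i = j
  · subst e
    rw [if_neg (by omega), mul_inv_cancel_right, mul_one]
  · have h := t3_of (show 33 ≤ 33 + i by omega) (show 33 + i < 41 by omega) (show 33 ≤ 33 + j by omega)
      (show 33 + j < 41 by omega)
    unfold t3 at h
    rw [Bool.or_eq_true, beq_iff_eq] at h
    rcases h with h | h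
    · omega
    · rw [D.cj (33 + i) (by omega) (by omega) (33 + j) (by omega) (by omega) (by omega) (by omega)]
      by_cases e2 : 33 + i + (33 + j) = 73
      · rw [if_pos e2, Bool.and_eq_true, beq_iff_eq] at h
        rw [if_pos (by omega), h.1, h.2, sz_true, wb_cons, wb_cons, wb_nil, mul_one]
        unfold w44
        show z * (b (33 + j) * b 44) = b (33 + j) * (z * b 44)
        rw [← mul_assoc, ← D.zc, mul_assoc]
      · rw [if_neg e2, Bool.and_eq_true, beq_iff_eq, Bool.not_eq_true'] at h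
        rw [if_neg (by omega), h.1, h.2, sz_false, wb_cons, wb_nil, one_mul]

/-- conjugation by products -/
theorem PD.cjel (h : ℕ) : ∀ n, n ≤ 8 → ∀ j, j < 8 → el (tV b) n h * tV b j * (el (tV b) n h)⁻¹ =
    tV b j * (if 7 - j < n ∧ h.testBit (7 - j) = true then w44 b z else 1) := by
  intro n
  induction n with
  | zero =>
    intro _ j _
    rw [el, if_neg (by omega), one_mul, inv_one]
  | succ n ih =>
    intro hn j hj
    have hw : ∀ m, m ≤ n → el (tV b) m h * w44 b z = w44 b z * el (tV b) m h := by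
      intro m
      induction m with
      | zero => intro _; rw [el, one_mul, mul_one]
      | succ m ihm =>
        intro hm
        rw [el, mul_assoc]
        split_ifs
        · rw [show tV b m = b (33 + m) from rfl, D.w44_cen (by omega) (by omega), ← mul_assoc, ihm (by omega), mul_assoc]
        · rw [one_mul, ihm (by omega), mul_one]
    rw [el]
    by_cases hb : h.testBit n = true
    · rw [if_pos hb]
      have e : el (tV b) n h * tV b n * tV b j * (el (tV b) n h * tV b n)⁻¹ =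
          el (tV b) n h * (tV b n * tV b j * (tV b n)⁻¹) * (el (tV b) n h)⁻¹ := by group
      rw [e, D.cj33 (by omega) hj]
      by_cases hnj : n = 7 - j
      · rw [if_pos hnj, if_pos ⟨by omega, by rw [← hnj]; exact hb⟩]
        have e2 : el (tV b) n h * (tV b j * w44 b z) * (el (tV b) n h)⁻¹ =
            (el (tV b) n h * tV b j * (el (tV b) n h)⁻¹) * (el (tV b) n h * w44 b z * (el (tV b) n h)⁻¹) := by group
        rw [e2, ih (by omega) j hj, if_neg (by omega), hw n le_rfl, mul_inv_cancel_right, mul_one]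
      · rw [if_neg hnj, mul_one, ih (by omega) j hj]
        have : (7 - j < n ∧ h.testBit (7 - j) = true) ↔ (7 - j < n + 1 ∧ h.testBit (7 - j) = true) := by
          constructor
          · rintro ⟨h1, h2⟩; exact ⟨by omega, h2⟩
          · rintro ⟨h1, h2⟩; exact ⟨by omega, h2⟩
        simp only [this]
    · rw [if_neg hb, mul_one, ih (by omega) j hj]
      have : (7 - j < n ∧ h.testBit (7 - j) = true) ↔ (7 - j < n + 1 ∧ h.testBit (7 - j) = true) := by
        constructor
        · rintro ⟨h1, h2⟩; exact ⟨by omega, h2⟩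
        · rintro ⟨h1, h2⟩
          refine ⟨?_, h2⟩
          by_contra h3
          have : n = 7 - j := by omega
          rw [← this] at h2
          exact hb h2
      simp only [this]

theorem PD.el_mem_QQ (h : ℕ) : el (tV b) 8 h ∈ QQ f := el_mem (fun i hi => D.b_mem_QQ (by omega) (by omega)) h

/-- elements of `A` centralise the `b r`, `33 ≤ r` -/
theorem PD.AA_cen {a : P} (ha : a ∈ AA b) {r : ℕ} (h1 : 33 ≤ r) (h2 : r < 48) : a * b r = b r * a := by
  unfold AA at ha
  induction ha using Subgroup.closure_induction with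
  | mem g hg =>
    obtain ⟨k, hk, rfl⟩ := hg
    exact (D.commAQ h1 h2 (by omega) (by omega)).symm
  | one => rw [one_mul, mul_one]
  | mul g h _ _ e1 e2 => rw [mul_assoc, e2, ← mul_assoc, e1, mul_assoc]
  | inv g _ e =>
    calc g⁻¹ * b r = g⁻¹ * (b r * g) * g⁻¹ := by group
      _ = g⁻¹ * (g * b r) * g⁻¹ := by rw [e]
      _ = b r * g⁻¹ := by group

/-- elements of `A` and `z` centralise the `b r`, `33 ≤ r` -/
theorem PD.ZZ_cen {g : P} (hg : g ∈ ZZ f) {r : ℕ} (h1 : 33 ≤ r) (h2 : r < 48) : g * b r = b r * g := by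
  obtain ⟨a, ha, h⟩ := D.mem_ZZ hg
  have h3 : a * b r = b r * a := D.AA_cen ha h1 h2
  rcases h with rfl | rfl
  · exact h3
  · rw [mul_assoc, ← D.zc, ← mul_assoc, h3, mul_assoc]

end

section quot

variable (D : PD b z f) [hZ : (ZZ f).Normal]

/-- the quotient by the preimage of `W_s` -/
abbrev mk2 (f : P →* LL) [(ZZ f).Normal] : P →* P ⧸ ZZ f := QuotientGroup.mk' (ZZ f)

/-- the basis of `Q / Z` -/
abbrev t8 (b : ℕ → P) (f : P →* LL) [(ZZ f).Normal] (k : ℕ) : P ⧸ ZZ f := mk2 f (tV b k)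

theorem mk2_one {g : P} : mk2 f g = 1 ↔ g ∈ ZZ f := QuotientGroup.eq_one_iff g

theorem mk2_el (n h : ℕ) : mk2 f (el (tV b) n h) = el (t8 b f) n h := FF.map_el _ n h

include D

theorem PD.eV : EAb (t8 b f) 8 where
  sq i hi := by
    show mk2 f (b (33 + i)) * mk2 f (b (33 + i)) = 1
    rw [← map_mul, D.sq _ (by omega) (by omega), map_one]
  cm i hi j hj := by
    have h := congrArg (mk2 f) (D.cj33 hi hj)
    have h1 : mk2 f (if i = 7 - j then w44 b z else 1) = 1 := by
      rw [mk2_one]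
      split_ifs
      · exact mul_mem (D.z_mem w41) (D.b_mem_ZZ (by norm_num) (by norm_num))
      · exact one_mem _
    rw [map_mul, map_mul, map_inv, map_mul, h1, mul_one, mul_inv_eq_iff_eq_mul] at h
    exact h

theorem PD.wb_codeV {w : List ℕ} (h : ∀ c ∈ w, 33 ≤ c ∧ c < 48) (e : Bool) :
    mk2 f (sz z e * wb b w) = el (t8 b f) 8 (cdw 33 (w.filter fun c => decide (c < 41))) := by
  have h0 : mk2 f (sz z e) = 1 := by
    rw [mk2_one]
    cases e
    · rw [sz_false]; exact one_mem _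
    · rw [sz_true]; exact D.z_mem w41
  rw [map_mul, h0, one_mul]
  induction w with
  | nil =>
    rw [wb_nil, map_one]
    exact (el_zero _).symm
  | cons c w ih =>
    have hc := h c List.mem_cons_self
    rw [wb_cons, map_mul, ih fun d hd => h d (List.mem_cons_of_mem _ hd)]
    by_cases h41 : c < 41
    · rw [List.filter_cons_of_pos (by simpa using h41)]
      have e : cdw 33 (c :: w.filter fun c => decide (c < 41)) =
          2 ^ (c - 33) ^^^ cdw 33 (w.filter fun c => decide (c < 41)) := rfl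
      rw [e, D.eV.el_xor le_rfl, el_two_pow (show c - 33 < 8 by omega)]
      show mk2 f (b c) * _ = mk2 f (b (33 + (c - 33))) * _
      rw [show 33 + (c - 33) = c by omega]
    · rw [List.filter_cons_of_neg (by simpa using h41)]
      have e : mk2 f (b c) = 1 := by
        rw [mk2_one]
        exact D.b_mem_ZZ (by omega) hc.2
      rw [e, one_mul]

theorem PD.actV {r : ℕ} (h1 : 15 ≤ r) (h2 : r < 33) : ActsC (t8 b f) 8 (mk2 f (b r)) (cVs.getD (r - 15) 0) := by
  intro i hi
  have h := t4_of h1 h2 (show 33 ≤ 33 + i by omega) (show 33 + i < 41 by omega)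
  unfold t4 at h
  rw [Bool.and_eq_true, List.all_eq_true, beq_iff_eq, show 33 + i - 33 = i by omega] at h
  rw [← h.2]
  show mk2 f (b r) * mk2 f (b (33 + i)) * (mk2 f (b r))⁻¹ = _
  rw [← map_inv, ← map_mul, ← map_mul, D.cj r h1 (by omega) (33 + i) (by omega) (by omega) (by omega) (by omega)]
  apply D.wb_codeV
  intro c hc
  rcases List.mem_cons.1 hc with rfl | hc
  · omega
  · have := h.1 c hc
    simpa using this

theorem PD.inj8 {u v : ℕ} (hu : u < 256) (hv : v < 256) (h : el (t8 b f) 8 u = el (t8 b f) 8 v) : u = v := by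
  have h1 : el (t8 b f) 8 (u ^^^ v) = 1 := by rw [D.eV.el_xor le_rfl, h, D.eV.el_sq]
  rw [← mk2_el, mk2_one] at h1
  have h2 : u ^^^ v = 0 := by
    apply eq_zero_of_bits (n := 8) (Nat.xor_lt_two_pow (n := 8) hu hv)
    intro k hk
    have h3 := D.cjel (u ^^^ v) 8 le_rfl (7 - k) (by omega)
    rw [show 7 - (7 - k) = k by omega] at h3
    have h4 := D.ZZ_cen h1 (r := 33 + (7 - k)) (by omega) (by omega)
    rw [show tV b (7 - k) = b (33 + (7 - k)) from rfl, h4, mul_inv_cancel_right] at h3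
    by_contra h5
    rw [Bool.not_eq_false] at h5
    rw [if_pos ⟨by omega, h5⟩] at h3
    exact D.w44_ne (by simpa using h3.symm)
  exact Nat.xor_eq_zero_iff.1 h2

/-- the elements of `Q` -/
def Pq (b : ℕ → P) (z : P) (f : P →* LL) [(ZZ f).Normal] (q : P) (h : ℕ) : Prop :=
  mk2 f q = el (t8 b f) 8 h ∧ ∀ j, j < 8 → q * tV b j * q⁻¹ = tV b j * (if h.testBit (7 - j) = true then w44 b z else 1)

theorem PD.Pq_el (h : ℕ) : Pq b z f (el (tV b) 8 h) h := by
  refine ⟨mk2_el 8 h, fun j hj => ?_⟩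
  rw [D.cjel h 8 le_rfl j hj]
  have : (7 - j < 8 ∧ h.testBit (7 - j) = true) ↔ h.testBit (7 - j) = true :=
    ⟨fun h => h.2, fun h => ⟨by omega, h⟩⟩
  simp only [this]

theorem PD.Pq_ZZ {g q : P} {h : ℕ} (hg : g ∈ ZZ f) (hq : Pq b z f q h) : Pq b z f (g * q) h := by
  refine ⟨by rw [map_mul, mk2_one.2 hg, one_mul]; exact hq.1, fun j hj => ?_⟩
  have e : g * q * tV b j * (g * q)⁻¹ = g * (q * tV b j * q⁻¹) * g⁻¹ := by group
  rw [e, hq.2 j hj]
  have h1 := D.ZZ_cen hg (r := 33 + j) (by omega) (by omega)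
  split_ifs
  · have h2 : g * w44 b z = w44 b z * g := by
      unfold w44
      rw [← mul_assoc, D.zc, mul_assoc, D.ZZ_cen hg (by norm_num) (by norm_num), mul_assoc]
    rw [← mul_assoc, show tV b j = b (33 + j) from rfl, h1, mul_assoc (b (33 + j)), h2, ← mul_assoc,
      mul_inv_cancel_right]
  · rw [mul_one, show tV b j = b (33 + j) from rfl, h1, mul_inv_cancel_right]

/-- every element of `Q` has a code -/
theorem PD.exists_code {q : P} (hq : q ∈ QQ f) : ∃ h, h < 256 ∧ Pq b z f q h := by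
  have key : ∀ a ∈ Subgroup.closure {g | ∃ r, 33 ≤ r ∧ r < 48 ∧ g = b r}, ∃ h, mk2 f a = el (t8 b f) 8 h := by
    intro a ha
    induction ha using Subgroup.closure_induction with
    | mem g hg =>
      obtain ⟨r, h1, h2, rfl⟩ := hg
      by_cases h41 : r < 41
      · refine ⟨2 ^ (r - 33), ?_⟩
        rw [el_two_pow (show r - 33 < 8 by omega)]
        show mk2 f (b r) = mk2 f (b (33 + (r - 33)))
        rw [show 33 + (r - 33) = r by omega]
      · exact ⟨0, by rw [el_zero, mk2_one]; exact D.b_mem_ZZ (by omega) h2⟩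
    | one => exact ⟨0, by rw [el_zero, map_one]⟩
    | mul g h _ _ h1 h2 =>
      obtain ⟨u, hu⟩ := h1
      obtain ⟨v, hv⟩ := h2
      exact ⟨u ^^^ v, by rw [map_mul, hu, hv, D.eV.el_xor le_rfl]⟩
    | inv g _ h =>
      obtain ⟨u, hu⟩ := h
      exact ⟨u, by rw [map_inv, hu, D.eV.el_inv]⟩
  have h1 : ∃ h, mk2 f q = el (t8 b f) 8 h := by
    obtain ⟨a, ha, e⟩ := D.mem_QQ hq
    obtain ⟨h, hh⟩ := key a ha
    refine ⟨h, ?_⟩
    rcases e with rfl | rfl
    · exact hh
    · have : mk2 f z = 1 := mk2_one.2 (D.z_mem w41)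
      rw [map_mul, this, mul_one, hh]
  obtain ⟨h, hh⟩ := h1
  refine ⟨h % 2 ^ 8, Nat.mod_lt _ (by norm_num), ?_⟩
  rw [el_mod, ← mk2_el] at hh
  have h2 : q * (el (tV b) 8 (h % 2 ^ 8))⁻¹ ∈ ZZ f := by
    rw [← mk2_one, map_mul, map_inv, hh, mul_inv_cancel]
  have h3 := D.Pq_ZZ h2 (D.Pq_el (h % 2 ^ 8))
  rwa [inv_mul_cancel_right] at h3

omit D in
theorem mk2_comm_QQ (D : PD b z f) {q q' : P} (hq : q ∈ QQ f) (hq' : q' ∈ QQ f) :
    mk2 f q * mk2 f q' = mk2 f q' * mk2 f q := by
  obtain ⟨u, -, hu⟩ := D.exists_code hq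
  obtain ⟨v, -, hv⟩ := D.exists_code hq'
  rw [hu.1, hv.1, D.eV.el_comm]

end quot

end Cfsg.Agent.H374.QS.FF
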