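import Cfsg.Agent.H374.QS.FF.ParB

/-!
# 2.F₄(2): the elements of `P_s ∖ Q_s` are commutators (helper374)

`PD.isComm` : every `g : P` with `f g ∉ Q_s` is a commutator.
-/

set_option autoImplicit false

namespace Cfsg.Agent.H374.QS.FF

open Cfsg.Lie Cfsg.Agent.H612.Ore Cfsg.Agent.H6.ORE
open Cfsg.Agent.FourTwo.Comm Cfsg.Agent.FourTwo.Par
open Cfsg.Agent.FourTwo.Cent (psP Ps)
open Cfsg.Agent.FourTwo.Base (LL x)
open Cfsg.Agent.SporRec.TwoSp6.Sp (V S om tr act enc exists_enc)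

universe u

variable {P : Type u} [Group P] {b : ℕ → P} {z : P} {f : P →* LL}

/-- the quotient by `A` -/
abbrev mk1 (b : ℕ → P) [(AA b).Normal] : P →* P ⧸ AA b := QuotientGroup.mk' (AA b)

/-- `Q / A` -/
abbrev Q1 (b : ℕ → P) (f : P →* LL) [(AA b).Normal] : Subgroup (P ⧸ AA b) := (QQ f).map (mk1 b)

theorem mk1_one [(AA b).Normal] {g : P} : mk1 b g = 1 ↔ g ∈ AA b := QuotientGroup.eq_one_iff g

section

variable (D : PD b z f) [hA : (AA b).Normal] [hZ : (ZZ f).Normal]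

include D

omit hZ in
theorem PD.mk1_ZZ {g : P} (h : g ∈ ZZ f) : mk1 b g = 1 ∨ mk1 b g = mk1 b z := by
  obtain ⟨a, ha, h⟩ := D.mem_ZZ h
  have h1 : mk1 b a = 1 := mk1_one.2 ha
  rcases h with rfl | rfl
  · left; exact h1
  · right; rw [map_mul, h1, one_mul]

/-- equality modulo `ZZ` -/
theorem PD.mk1_of_mk2 {g h : P} (e : mk2 f g = mk2 f h) : mk1 b g = mk1 b h ∨ mk1 b g = mk1 b h * mk1 b z := by
  have h1 : h⁻¹ * g ∈ ZZ f := by
    rw [← mk2_one, map_mul, map_inv, e, inv_mul_cancel]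
  rcases D.mk1_ZZ h1 with h2 | h2
  · left
    rw [map_mul, map_inv] at h2
    exact (inv_mul_eq_one.1 h2).symm
  · right
    rw [← h2, map_mul, map_inv, mul_inv_cancel_left]

theorem PD.mk2_of_mk1 {g h : P} (e : mk1 b g = mk1 b h ∨ mk1 b g = mk1 b h * mk1 b z) : mk2 f g = mk2 f h := by
  have h1 : h⁻¹ * g ∈ ZZ f := by
    rcases e with e | e
    · apply D.fAA
      rw [← mk1_one, map_mul, map_inv, e, inv_mul_cancel]
    · have h2 : (h * z)⁻¹ * g ∈ AA b := by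
        rw [← mk1_one, map_mul, map_inv, e, map_mul, inv_mul_cancel]
      have h3 : h⁻¹ * g = z * ((h * z)⁻¹ * g) := by group
      rw [h3]
      exact mul_mem (D.z_mem w41) (D.fAA _ h2)
  rw [← mk2_one, map_mul, map_inv, inv_mul_eq_one] at h1
  exact h1.symm

theorem PD.es : ES (Q1 b f) (mk1 b z) where
  normal := D.normQ.map _ (QuotientGroup.mk'_surjective _)
  mem := ⟨z, D.z_mem w33, rfl⟩
  ne := fun h => D.z_notMem (mk1_one.1 h)
  sq := by rw [← map_mul, D.z2, map_one]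
  central := by
    intro h
    obtain ⟨g, rfl⟩ := QuotientGroup.mk'_surjective (AA b) h
    rw [← map_mul, D.zc, map_mul]
  comm := by
    rintro _ ⟨q, hq, rfl⟩ _ ⟨q', hq', rfl⟩
    rw [← map_mul, ← map_mul]
    apply D.mk1_of_mk2
    rw [map_mul, map_mul]
    exact mk2_comm_QQ D hq hq'
  pow := by
    rintro _ ⟨q, hq, rfl⟩
    rw [← map_mul]
    apply D.mk1_ZZ
    rw [← mk2_one, map_mul]
    obtain ⟨h, -, hh⟩ := D.exists_code hq
    rw [hh.1, D.eV.el_sq]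
  nd := by
    rintro _ ⟨q, hq, rfl⟩ hc
    obtain ⟨h, hlt, hh⟩ := D.exists_code hq
    have h0 : h = 0 := by
      apply eq_zero_of_bits (n := 8) hlt
      intro k hk
      have h1 := hh.2 (7 - k) (by omega)
      rw [show 7 - (7 - k) = k by omega] at h1
      by_contra h5
      rw [Bool.not_eq_false] at h5
      rw [if_pos h5] at h1
      have h2 := congrArg (mk1 b) h1
      have h3 := hc (mk1 b (tV b (7 - k))) ⟨_, D.b_mem_QQ (by omega) (by omega), rfl⟩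
      rw [map_mul, map_mul, map_inv, h3, mul_inv_cancel_right, map_mul] at h2
      exact D.w44_notMem (mk1_one.1 (by simpa using h2.symm))
    subst h0
    have h1 := hh.1
    rw [el_zero] at h1
    exact D.mk1_ZZ (mk2_one.1 h1)

theorem PD.fpz {a c : P} {ca cc u v : ℕ} (ha : ActsC (t8 b f) 8 (mk2 f a) ca) (hc : ActsC (t8 b f) 8 (mk2 f c) cc)
    (hB : fpB 8 ca cc u v = true) : FPz (Q1 b f) (mk1 b z) (mk1 b a) (mk1 b c) := by
  rintro _ ⟨q, hq, rfl⟩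
  obtain ⟨h, hlt, hh⟩ := D.exists_code hq
  have h1 := fp_codes D.eV ha hc hB hlt
  rw [← hh.1] at h1
  simp only [← mk2_el, ← map_mul, ← map_inv] at h1
  refine ⟨mk1 b (el (tV b) 8 (apc 8 u h)), ⟨_, D.el_mem_QQ _, rfl⟩, mk1 b (el (tV b) 8 (apc 8 v h)),
    ⟨_, D.el_mem_QQ _, rfl⟩, ?_⟩
  simp only [← map_mul, ← map_inv]
  rcases D.mk1_of_mk2 h1 with h2 | h2
  · exact ⟨1, Or.inl rfl, by rw [mul_one]; exact h2⟩
  · exact ⟨_, Or.inr rfl, h2⟩

theorem PD.hact {a c g q : P} {ca cc : ℕ} (ha : ActsC (t8 b f) 8 (mk2 f a) ca) (hc : ActsC (t8 b f) 8 (mk2 f c) cc)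
    (hq : q ∈ QQ f) (hg : g = q * (a * c * a⁻¹ * c⁻¹))
    (hn : ∃ k, k < 8 ∧ apc 8 ca (col 8 cc k) ≠ apc 8 cc (col 8 ca k)) :
    ∃ y ∈ Q1 b f, ¬ (mk1 b g * y * (mk1 b g)⁻¹ = y ∨ mk1 b g * y * (mk1 b g)⁻¹ = y * mk1 b z) := by
  by_contra hno
  push Not at hno
  obtain ⟨k, hk, hn⟩ := hn
  apply hn
  apply D.inj8 (apc_lt' 8 _ _) (apc_lt' 8 _ _)
  have h1 : ∀ j, j < 8 → mk2 f g * t8 b f j * (mk2 f g)⁻¹ = t8 b f j := by
    intro j hj
    have h3 := hno (mk1 b (tV b j)) ⟨_, D.b_mem_QQ (by omega) (by omega), rfl⟩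
    rw [← map_mul, ← map_inv, ← map_mul] at h3 ⊢
    exact D.mk2_of_mk1 h3
  have h2 : ∀ j, j < 8 → mk2 f (a * c * a⁻¹ * c⁻¹) * t8 b f j = t8 b f j * mk2 f (a * c * a⁻¹ * c⁻¹) := by
    intro j hj
    have h3 := h1 j hj
    have h4 := mk2_comm_QQ D hq (D.b_mem_QQ (r := 33 + j) (by omega) (by omega))
    rw [hg, map_mul] at h3
    obtain ⟨X, hX⟩ : ∃ X, X = mk2 f (a * c * a⁻¹ * c⁻¹) := ⟨_, rfl⟩
    rw [← hX] at h3 ⊢
    have h5 : mk2 f q * (X * t8 b f j) = mk2 f q * (t8 b f j * X) := by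
      rw [mul_inv_eq_iff_eq_mul] at h3
      rw [← mul_assoc, h3, ← mul_assoc, ← mul_assoc]
      congr 1
      exact h4.symm
    exact mul_left_cancel h5
  have h3 : ∀ v n, n ≤ 8 → mk2 f (a * c * a⁻¹ * c⁻¹) * el (t8 b f) n v = el (t8 b f) n v * mk2 f (a * c * a⁻¹ * c⁻¹) := by
    obtain ⟨X, hX⟩ : ∃ X, X = mk2 f (a * c * a⁻¹ * c⁻¹) := ⟨_, rfl⟩
    rw [← hX] at h2 ⊢
    intro v n
    induction n with
    | zero => intro _; rw [el, mul_one, one_mul]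
    | succ n ih =>
      intro hn
      rw [el, ← mul_assoc, ih (by omega), mul_assoc, mul_assoc]
      congr 1
      split_ifs
      · exact h2 n (by omega)
      · rw [mul_one, one_mul]
  have h4 := conj_el D.eV ha (col 8 cc k)
  have h5 := conj_el D.eV hc (col 8 ca k)
  rw [← ha k hk] at h5
  rw [← hc k hk] at h4
  rw [← h4, ← h5]
  have h6 := h3 (apc 8 cc (col 8 ca k)) 8 le_rfl
  rw [← h5, map_mul, map_mul, map_mul, map_inv, map_inv] at h6
  calc mk2 f a * (mk2 f c * t8 b f k * (mk2 f c)⁻¹) * (mk2 f a)⁻¹ =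
      (mk2 f a * mk2 f c * (mk2 f a)⁻¹ * (mk2 f c)⁻¹ * (mk2 f c * (mk2 f a * t8 b f k * (mk2 f a)⁻¹) * (mk2 f c)⁻¹)) *
        (mk2 f a * mk2 f c * (mk2 f a)⁻¹ * (mk2 f c)⁻¹)⁻¹ := by group
    _ = _ := by rw [h6]; group

end

/-! ### the words -/

/-- lifts of the seven transvections -/
def TT (b : ℕ → P) (j : ℕ) : P := wd b (tws.getD j [])

theorem twsR : ∀ j < 7, ∀ r ∈ tws.getD j [], 15 ≤ r ∧ r < 33 := by decide

/-- the codes of the letters on `A` -/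
def gAl : List ℕ := List.replicate 15 0 ++ cAs
/-- the codes of the letters on `Q / Z` -/
def gVl : List ℕ := List.replicate 15 0 ++ cVs

theorem gAl_getD : ∀ r < 33, 15 ≤ r → gAl.getD r 0 = cAs.getD (r - 15) 0 := by decide
theorem gVl_getD : ∀ r < 33, 15 ≤ r → gVl.getD r 0 = cVs.getD (r - 15) 0 := by decide

theorem chkG : ((List.range 7).all fun j => isC 7 gAl (tws.getD j []) (g7s.getD j 0) &&
    isC 8 gVl (tws.getD j []) (g8s.getD j 0)) = true := by decide +kernel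

theorem chkA_of {i : ℕ} (hi : i < 30) : (∀ j ∈ aw.getD i [], j < 7) ∧ (∀ j ∈ bw.getD i [], j < 7) ∧
    isC 7 g7s (aw.getD i []) (a7s.getD i 0) = true ∧ isC 7 g7s (bw.getD i []) (b7s.getD i 0) = true ∧
    isC 8 g8s (aw.getD i []) (a8s.getD i 0) = true ∧ isC 8 g8s (bw.getD i []) (b8s.getD i 0) = true := by
  have h := List.all_eq_true.1 chkA i (List.mem_range.2 hi)
  simp only [Bool.and_eq_true, List.all_eq_true, Nat.blt_eq] at h
  obtain ⟨⟨⟨⟨⟨h1, h2⟩, h3⟩, h4⟩, h5⟩, h6⟩ := h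
  exact ⟨h1, h2, h3, h4, h5, h6⟩

theorem map_wd {G G' : Type*} [Group G] [Group G'] (φ : G →* G') (T : ℕ → G) (w : List ℕ) :
    φ (wd T w) = wd (fun r => φ (T r)) w := by
  induction w with
  | nil => exact map_one φ
  | cons j w ih => rw [wd, wd, map_mul, ih]

section

variable (D : PD b z f)

include D

theorem PD.TTA {j : ℕ} (hj : j < 7) : ActsC (tA b) 7 (TT b j) (g7s.getD j 0) := by
  have h := List.all_eq_true.1 chkG j (List.mem_range.2 hj)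
  rw [Bool.and_eq_true] at h
  apply acts_of_isC D.eA _ h.1
  intro r hr
  obtain ⟨h1, h2⟩ := twsR j hj r hr
  have h3 := D.actA h1 (show r < 48 by omega)
  rwa [cAr, if_pos h2, ← gAl_getD r h2 h1] at h3

theorem PD.TTV [hZ : (ZZ f).Normal] {j : ℕ} (hj : j < 7) :
    ActsC (t8 b f) 8 (mk2 f (TT b j)) (g8s.getD j 0) := by
  have h := List.all_eq_true.1 chkG j (List.mem_range.2 hj)
  rw [Bool.and_eq_true] at h
  rw [TT, map_wd]
  apply acts_of_isC D.eV _ h.2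
  intro r hr
  obtain ⟨h1, h2⟩ := twsR j hj r hr
  have h3 := D.actV h1 h2
  rwa [← gVl_getD r h2 h1] at h3

theorem PD.TTR {j : ℕ} (hj : j < 7) : R2 b (TT b j) (tv j) := by
  apply D.R2_of_RR
  intro v hv
  refine ⟨apc 7 (g7s.getD j 0) v, apc_lt' 7 _ _, conj_el D.eA (D.TTA hj) v, ?_⟩
  have h := List.all_eq_true.1 (List.all_eq_true.1 chkT j (List.mem_range.2 hj)) v (List.mem_range.2 hv)
  rw [beq_iff_eq] at h
  rw [h, ap_tv _ (p6_lt v hv)]

theorem PD.R2_TT {w : List ℕ} (hw : ∀ j ∈ w, j < 7) : R2 b (wd (TT b) w) (wd tv w) := by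
  induction w with
  | nil => exact R2.one
  | cons j w ih =>
    rw [wd, wd]
    exact (D.TTR (hw j List.mem_cons_self)).mul (ih fun k hk => hw k (List.mem_cons_of_mem _ hk))

theorem PD.QQ_cen {p : P} (hp : p ∈ QQ f) {a : P} (ha : a ∈ AA b) : p * a = a * p := by
  obtain ⟨q, hq, h⟩ := D.mem_QQ hp
  have h1 : q * a = a * q := by
    clear h
    induction hq using Subgroup.closure_induction with
    | mem g hg =>
      obtain ⟨r, h1, h2, rfl⟩ := hg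
      exact (D.AA_cen ha h1 h2).symm
    | one => rw [one_mul, mul_one]
    | mul g h _ _ e1 e2 => rw [mul_assoc, e2, ← mul_assoc, e1, mul_assoc]
    | inv g _ e =>
      calc g⁻¹ * a = g⁻¹ * (a * g) * g⁻¹ := by group
        _ = g⁻¹ * (g * a) * g⁻¹ := by rw [e]
        _ = a * g⁻¹ := by group
  rcases h with rfl | rfl
  · exact h1
  · rw [mul_assoc, ← D.zc a, ← mul_assoc, h1, mul_assoc]

theorem PD.ActsC_mul {p a : P} (hp : p ∈ QQ f) {c : ℕ} (h : ActsC (tA b) 7 a c) : ActsC (tA b) 7 (p * a) c := by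
  intro i hi
  have e : p * a * tA b i * (p * a)⁻¹ = p * (a * tA b i * a⁻¹) * p⁻¹ := by group
  rw [e, h i hi, D.QQ_cen hp (el_mem_AA _), mul_inv_cancel_right]

/-- every element of `P ∖ Q` is a commutator -/
theorem PD.isComm [Finite P] {g : P} (hg : f g ∉ RG w33) : IsComm g := by
  have hA : (AA b).Normal := D.normA
  have hZ : (ZZ f).Normal := D.normZ
  obtain ⟨s, hs⟩ := D.total g
  obtain ⟨i, hi, h, e⟩ := exists_rep30 s
  obtain ⟨d, hd⟩ := D.surj h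
  have hi0 : i ≠ 0 := by
    rintro rfl
    apply hg
    apply D.ker_R
    have e' : h * s * h⁻¹ = 1 := e
    rw [mul_inv_eq_one, mul_eq_left] at e'
    rw [← e']
    exact hs.1
  obtain ⟨h1, h2, h3, h4, h5, h6⟩ := chkA_of hi
  obtain ⟨g', hg'⟩ : ∃ g', g' = d * g * d⁻¹ := ⟨_, rfl⟩
  obtain ⟨a, haa⟩ : ∃ a, a = wd (TT b) (aw.getD i []) := ⟨_, rfl⟩
  obtain ⟨c, hcc⟩ : ∃ c, c = wd (TT b) (bw.getD i []) := ⟨_, rfl⟩
  have k1 : R2 b g' (wd tv (rws.getD i [])) := by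
    rw [hg', ← e]
    exact (hd.mul hs).mul hd.inv
  have k2 : R2 b a (wd tv (aw.getD i [])) := by rw [haa]; exact D.R2_TT h1
  have k3 : R2 b c (wd tv (bw.getD i [])) := by rw [hcc]; exact D.R2_TT h2
  have k4 : R2 b (a * c * a⁻¹ * c⁻¹) (wd tv (rws.getD i [])) := by
    rw [comm_aw hi]
    exact ((k2.mul k3).mul k2.inv).mul k3.inv
  have k5 : g' * (a * c * a⁻¹ * c⁻¹)⁻¹ ∈ QQ f := by
    apply D.ker_R
    have := (k1.mul k4.inv).1
    rwa [mul_inv_cancel] at this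
  have a7 : ActsC (tA b) 7 a (a7s.getD i 0) := by
    rw [haa]
    exact acts_of_isC D.eA (fun j hj => D.TTA (h1 j hj)) h3
  have c7 : ActsC (tA b) 7 c (b7s.getD i 0) := by
    rw [hcc]
    exact acts_of_isC D.eA (fun j hj => D.TTA (h2 j hj)) h4
  have a8 : ActsC (t8 b f) 8 (mk2 f a) (a8s.getD i 0) := by
    rw [haa, map_wd]
    exact acts_of_isC D.eV (fun j hj => D.TTV (h1 j hj)) h5
  have c8 : ActsC (t8 b f) 8 (mk2 f c) (b8s.getD i 0) := by
    rw [hcc, map_wd]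
    exact acts_of_isC D.eV (fun j hj => D.TTV (h2 j hj)) h6
  have nz : ∀ {t : Bool}, (Nat.beq i 0 || t) = true → t = true := by
    intro t ht
    rw [Bool.or_eq_true] at ht
    rcases ht with ht | ht
    · exact absurd (Nat.eq_of_beq_eq_true ht) hi0
    · exact ht
  have f7 := nz (List.all_eq_true.1 fp7 i (List.mem_range.2 hi))
  have f8 := nz (List.all_eq_true.1 fp8 i (List.mem_range.2 hi))
  have n8 := nz (List.all_eq_true.1 nt8 i (List.mem_range.2 hi))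
  have hn : ∃ k, k < 8 ∧ apc 8 (a8s.getD i 0) (col 8 (b8s.getD i 0) k) ≠
      apc 8 (b8s.getD i 0) (col 8 (a8s.getD i 0) k) := by
    rw [List.any_eq_true] at n8
    obtain ⟨k, hk, hk2⟩ := n8
    rw [Bool.not_eq_true', beq_eq_false_iff_ne] at hk2
    exact ⟨k, List.mem_range.1 hk, hk2⟩
  have hact := D.hact a8 c8 k5 (g := g') (by group) hn
  have hfp := D.fpz a8 c8 f8
  have hc1 : mk1 b g' * (mk1 b a * mk1 b c * (mk1 b a)⁻¹ * (mk1 b c)⁻¹)⁻¹ ∈ Q1 b f := by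
    refine ⟨_, k5, ?_⟩
    simp only [map_mul, map_inv]
  obtain ⟨_, ⟨p₁, hp₁, rfl⟩, _, ⟨p₂, hp₂, rfl⟩, e1⟩ := D.es.step hfp hc1 hact
  have k6 : g' * ((p₁ * a) * (p₂ * c) * (p₁ * a)⁻¹ * (p₂ * c)⁻¹)⁻¹ ∈ AA b := by
    rw [← mk1_one]
    simp only [map_mul, map_inv] at e1 ⊢
    rw [e1, mul_inv_cancel]
  have hFP : FP (AA b) (p₁ * a) (p₂ * c) := by
    intro w hw
    obtain ⟨v, hv, rfl⟩ := D.mem_AA hw
    exact ⟨_, el_mem_AA _, _, el_mem_AA _, fp_codes D.eA (D.ActsC_mul hp₁ a7) (D.ActsC_mul hp₂ c7) f7 hv⟩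
  obtain ⟨q₁, -, q₂, -, e2⟩ := exists_comm_of_FP D.normA D.commA hFP k6
  have k7 : IsComm g' := ⟨_, _, e2⟩
  have k8 := k7.conj d⁻¹
  have e3 : d⁻¹ * g' * d⁻¹⁻¹ = g := by rw [hg']; group
  rwa [e3] at k8

end

end Cfsg.Agent.H374.QS.FF
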